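import Cfsg.Agent.Lib.Transfer.Frobenius
import Cfsg.Agent.Lib.Signal.Basic
import Cfsg.Agent.Lib.Coprime.Action

/-!
# Mixed subgroups and primes: basic tools

`p`-elements, small conjugation-invariant sets, and the case `q ^ a - 1 < p`.
-/

set_option autoImplicit false

namespace Cfsg.Agent.Lib.MixedPrime

open Cfsg Cfsg.Agent.Lib.Transfer.Basic Cfsg.Agent.Lib.Transfer.Frobenius
open Subgroup

universe u

variable {G : Type u} [Group G]

/-- `g` is a `p`-element. -/
def PE (p : ℕ) (g : G) : Prop := ∃ k : ℕ, g ^ p ^ k = 1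

theorem PE.conj {p : ℕ} {g : G} (h : PE p g) (x : G) : PE p (x * g * x⁻¹) := by
  obtain ⟨k, hk⟩ := h
  refine ⟨k, ?_⟩
  rw [conj_pow, hk]
  simp

theorem PE.of_conj {p : ℕ} {g x : G} (h : PE p (x * g * x⁻¹)) : PE p g := by
  have := h.conj x⁻¹
  simpa [mul_assoc] using this

theorem PE.inv {p : ℕ} {g : G} (h : PE p g) : PE p g⁻¹ := by
  obtain ⟨k, hk⟩ := h
  exact ⟨k, by rw [inv_pow, hk, inv_one]⟩

theorem PE.pow {p : ℕ} {g : G} (h : PE p g) (n : ℕ) : PE p (g ^ n) := by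
  obtain ⟨k, hk⟩ := h
  exact ⟨k, by rw [← pow_mul, mul_comm, pow_mul, hk, one_pow]⟩

theorem PE.one (p : ℕ) : PE p (1 : G) := ⟨0, by simp⟩

theorem PE.mul {p : ℕ} {g h : G} (hg : PE p g) (hh : PE p h) (hc : Commute g h) : PE p (g * h) := by
  obtain ⟨k, hk⟩ := hg
  obtain ⟨l, hl⟩ := hh
  refine ⟨k + l, ?_⟩
  rw [hc.mul_pow, pow_add]
  rw [pow_mul, hk, one_pow, mul_comm (p ^ k), pow_mul, hl, one_pow, one_mul]

theorem isPGroup_zpowers_of_PE {p : ℕ} [hp : Fact p.Prime] {g : G} (h : PE p g) :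
    IsPGroup p (zpowers g) := by
  obtain ⟨k, hk⟩ := h
  intro x
  obtain ⟨n, hn⟩ := x.2
  refine ⟨k, ?_⟩
  ext
  simp only [SubmonoidClass.coe_pow, OneMemClass.coe_one]
  rw [← hn]
  simp only [← zpow_natCast]
  rw [← zpow_mul, mul_comm, zpow_mul, zpow_natCast, hk, one_zpow]

theorem PE.of_mem {p : ℕ} {X : Subgroup G} (hX : IsPGroup p X) {g : G} (hg : g ∈ X) : PE p g := by
  obtain ⟨k, hk⟩ := hX ⟨g, hg⟩
  exact ⟨k, by simpa using congrArg Subtype.val hk⟩

theorem PE.orderOf_eq {p : ℕ} (hp : p.Prime) {g : G} (h : PE p g) : ∃ k, orderOf g = p ^ k := by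
  obtain ⟨k, hk⟩ := h
  obtain ⟨j, -, hj⟩ := (Nat.dvd_prime_pow hp).1 (orderOf_dvd_of_pow_eq_one hk)
  exact ⟨j, hj⟩

theorem PE.of_orderOf {p : ℕ} {g : G} {k : ℕ} (h : orderOf g = p ^ k) : PE p g :=
  ⟨k, by rw [← h, pow_orderOf_eq_one]⟩

/-- A `p`-element with `g * g = 1`, `p` odd, is trivial. -/
theorem PE.eq_one_of_mul_self {p : ℕ} (hp : p.Prime) (hp2 : p ≠ 2) {g : G} (h : PE p g)
    (hg : g * g = 1) : g = 1 := by
  obtain ⟨k, hk⟩ := h.orderOf_eq hp
  have h2 : orderOf g ∣ 2 := orderOf_dvd_of_pow_eq_one (by rw [pow_two, hg])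
  rw [hk] at h2
  have hco : Nat.Coprime (p ^ k) 2 :=
    Nat.Coprime.pow_left k ((Nat.coprime_primes hp Nat.prime_two).2 hp2)
  have : p ^ k = 1 := Nat.Coprime.eq_one_of_dvd hco h2
  rw [this] at hk
  exact orderOf_eq_one_iff.1 hk

/-- A `p`-element acts trivially on a small invariant set. -/
theorem conj_trivial [Finite G] {p : ℕ} (hp : p.Prime) {g : G} (hg : PE p g) {S : Set G}
    (hS : ∀ x ∈ S, g * x * g⁻¹ ∈ S) (hcard : S.ncard < p) : ∀ x ∈ S, Commute g x := by
  intro x hx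
  haveI : Fintype G := Fintype.ofFinite G
  classical
  have hSf : S.Finite := Set.toFinite S
  -- all iterates are in `S`
  have hit : ∀ n : ℕ, g ^ n * x * (g ^ n)⁻¹ ∈ S := by
    intro n
    induction n with
    | zero => simpa using hx
    | succ n ih =>
      have := hS _ ih
      rw [pow_succ']
      convert this using 1
      group
  let f : Fin p → S := fun i => ⟨g ^ (i : ℕ) * x * (g ^ (i : ℕ))⁻¹, hit i⟩
  haveI : Finite S := hSf
  haveI : Fintype S := Fintype.ofFinite S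
  have hlt : Fintype.card S < Fintype.card (Fin p) := by
    rw [Fintype.card_fin]
    rw [← Nat.card_eq_fintype_card]
    exact hcard
  obtain ⟨i, j, hij, hf⟩ := Fintype.exists_ne_map_eq_of_card_lt f hlt
  wlog hlt' : (i : ℕ) < j generalizing i j
  · exact this j i hij.symm hf.symm
      (lt_of_le_of_ne (not_lt.mp hlt') (fun h => hij (Fin.ext h.symm)))
  have hf' : g ^ (i : ℕ) * x * (g ^ (i : ℕ))⁻¹ = g ^ (j : ℕ) * x * (g ^ (j : ℕ))⁻¹ :=
    congrArg Subtype.val hf
  set d := (j : ℕ) - i with hd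
  have hjd : (j : ℕ) = i + d := by omega
  have hd0 : 0 < d := by omega
  have hdp : d < p := by have := j.2; omega
  have hcomm : g ^ d * x * (g ^ d)⁻¹ = x := by
    rw [hjd, pow_add] at hf'
    have h1 : g ^ (i : ℕ) * x * (g ^ (i : ℕ))⁻¹ =
        g ^ (i : ℕ) * (g ^ d * x * (g ^ d)⁻¹) * (g ^ (i : ℕ))⁻¹ := by
      rw [hf']
      group
    have h2 : x = g ^ d * x * (g ^ d)⁻¹ := by
      have h3 := congrArg (fun z => (g ^ (i : ℕ))⁻¹ * z * g ^ (i : ℕ)) h1
      simpa [mul_assoc] using h3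
    exact h2.symm
  obtain ⟨k, hk⟩ := hg.orderOf_eq hp
  have hco : Nat.Coprime d (orderOf g) := by
    rw [hk]
    apply Nat.Coprime.pow_right
    exact ((hp.coprime_iff_not_dvd.2 (Nat.not_dvd_of_pos_of_lt hd0 hdp)).symm)
  obtain ⟨m, hm⟩ := exists_pow_eq_self_of_coprime hco
  have hcd : Commute (g ^ d) x := by
    have : g ^ d * x = x * g ^ d := by
      calc g ^ d * x = (g ^ d * x * (g ^ d)⁻¹) * g ^ d := by group
        _ = x * g ^ d := by rw [hcomm]
    exact this
  have := hcd.pow_left m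
  rwa [hm] at this

/-- A `p`-element moving a point of an invariant set with `p` points is transitive. -/
theorem conj_transitive [Finite G] {p : ℕ} (hp : p.Prime) {g : G} (hg : PE p g) {S : Set G}
    (hS : ∀ x ∈ S, g * x * g⁻¹ ∈ S) (hcard : S.ncard = p) {x₀ : G} (hx₀ : x₀ ∈ S)
    (hmove : ¬ Commute g x₀) : ∀ x₁ ∈ S, ∀ x₂ ∈ S, ∃ n : ℕ, g ^ n * x₁ * (g ^ n)⁻¹ = x₂ := by
  classical
  have hSf : S.Finite := Set.toFinite S
  haveI : Finite S := hSf
  haveI : Fintype S := Fintype.ofFinite S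
  have hit : ∀ n : ℕ, g ^ n * x₀ * (g ^ n)⁻¹ ∈ S := by
    intro n
    induction n with
    | zero => simpa using hx₀
    | succ n ih =>
      have := hS _ ih
      rw [pow_succ']
      convert this using 1
      group
  let f : Fin p → S := fun i => ⟨g ^ (i : ℕ) * x₀ * (g ^ (i : ℕ))⁻¹, hit i⟩
  have hcardS : Fintype.card S = p := by
    rw [← Nat.card_eq_fintype_card]
    exact hcard
  have hinj : Function.Injective f := by
    intro i j hf
    by_contra hij
    wlog hlt' : (i : ℕ) < j generalizing i j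
    · exact this hf.symm (Ne.symm hij)
        (lt_of_le_of_ne (not_lt.mp hlt') (fun h => hij (Fin.ext h.symm)))
    have hf' : g ^ (i : ℕ) * x₀ * (g ^ (i : ℕ))⁻¹ = g ^ (j : ℕ) * x₀ * (g ^ (j : ℕ))⁻¹ :=
      congrArg Subtype.val hf
    set d := (j : ℕ) - i with hd
    have hjd : (j : ℕ) = i + d := by omega
    have hd0 : 0 < d := by omega
    have hdp : d < p := by have := j.2; omega
    have hcomm : g ^ d * x₀ * (g ^ d)⁻¹ = x₀ := by
      rw [hjd, pow_add] at hf'
      have h1 : g ^ (i : ℕ) * x₀ * (g ^ (i : ℕ))⁻¹ =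
          g ^ (i : ℕ) * (g ^ d * x₀ * (g ^ d)⁻¹) * (g ^ (i : ℕ))⁻¹ := by
        rw [hf']
        group
      have h2 : x₀ = g ^ d * x₀ * (g ^ d)⁻¹ := by
        have h3 := congrArg (fun z => (g ^ (i : ℕ))⁻¹ * z * g ^ (i : ℕ)) h1
        simpa [mul_assoc] using h3
      exact h2.symm
    obtain ⟨k, hk⟩ := hg.orderOf_eq hp
    have hco : Nat.Coprime d (orderOf g) := by
      rw [hk]
      apply Nat.Coprime.pow_right
      exact ((hp.coprime_iff_not_dvd.2 (Nat.not_dvd_of_pos_of_lt hd0 hdp)).symm)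
    obtain ⟨m, hm⟩ := exists_pow_eq_self_of_coprime hco
    have hcd : Commute (g ^ d) x₀ := by
      have : g ^ d * x₀ = x₀ * g ^ d := by
        calc g ^ d * x₀ = (g ^ d * x₀ * (g ^ d)⁻¹) * g ^ d := by group
          _ = x₀ * g ^ d := by rw [hcomm]
      exact this
    have := hcd.pow_left m
    rw [hm] at this
    exact hmove this
  have hsurj : Function.Surjective f := by
    have hb : Function.Injective f ∧ Fintype.card (Fin p) = Fintype.card S := by
      refine ⟨hinj, ?_⟩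
      rw [hcardS, Fintype.card_fin]
    exact (Fintype.bijective_iff_injective_and_card f).2 hb |>.2
  obtain ⟨k, hk⟩ := hg.orderOf_eq hp
  -- a positive period of `g`
  have hper : g ^ (orderOf g) = 1 := pow_orderOf_eq_one g
  have hpos : 0 < orderOf g := by
    rw [hk]
    exact pow_pos hp.pos _
  intro x₁ hx₁ x₂ hx₂
  obtain ⟨i, hi⟩ := hsurj ⟨x₁, hx₁⟩
  obtain ⟨j, hj⟩ := hsurj ⟨x₂, hx₂⟩
  have hi' : g ^ (i : ℕ) * x₀ * (g ^ (i : ℕ))⁻¹ = x₁ := congrArg Subtype.val hi
  have hj' : g ^ (j : ℕ) * x₀ * (g ^ (j : ℕ))⁻¹ = x₂ := congrArg Subtype.val hj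
  -- `n` with `g ^ n * g ^ i = g ^ j`
  refine ⟨(j : ℕ) + (orderOf g) * i - i, ?_⟩
  have hn : g ^ ((j : ℕ) + (orderOf g) * i - i) * g ^ (i : ℕ) = g ^ (j : ℕ) := by
    rw [← pow_add]
    have : (j : ℕ) + orderOf g * i - i + i = j + orderOf g * i := by
      have : (i : ℕ) ≤ orderOf g * i := Nat.le_mul_of_pos_left _ hpos
      omega
    rw [this, pow_add, pow_mul, hper, one_pow, mul_one]
  rw [← hi', ← hj', ← hn]
  group

section mixed

variable [Finite G] {p q : ℕ}

/-- Two nontrivial subgroups of coprime prime power orders, one normalizing the other,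
contradict the mixed hypothesis. -/
theorem no_mixed (hp : p.Prime) (hq : q.Prime) (hpG : p ∣ Nat.card G)
    (hmix : ∀ H : Subgroup G, H ≠ ⊤ → ¬ IsPGroup q H → q ∣ Nat.card H → p ∣ Nat.card H)
    {X R : Subgroup G} {r : ℕ} (hr : r.Prime) (hrp : r ≠ p) (hrq : r ≠ q) (hpq : p ≠ q)
    (hX : IsPGroup q X) (hX1 : X ≠ ⊥) (hR : IsPGroup r R) (hR1 : R ≠ ⊥)
    (hn : X ≤ normalizer (R : Set G) ∨ R ≤ normalizer (X : Set G)) : False := by
  haveI : Fact q.Prime := ⟨hq⟩
  haveI : Fact r.Prime := ⟨hr⟩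
  have hXq : q ∣ Nat.card X := by
    obtain ⟨k, hk⟩ := IsPGroup.iff_card.1 hX
    rw [hk]
    refine dvd_pow_self q ?_
    rintro rfl
    apply hX1
    rw [pow_zero] at hk
    exact (Subgroup.eq_bot_iff_card X).2 hk
  have hRr : r ∣ Nat.card R := by
    obtain ⟨k, hk⟩ := IsPGroup.iff_card.1 hR
    rw [hk]
    refine dvd_pow_self r ?_
    rintro rfl
    apply hR1
    rw [pow_zero] at hk
    exact (Subgroup.eq_bot_iff_card R).2 hk
  have hnXp : ¬ p ∣ Nat.card X := by
    obtain ⟨k, hk⟩ := IsPGroup.iff_card.1 hX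
    rw [hk]
    intro h
    exact hpq ((Nat.prime_dvd_prime_iff_eq hp hq).1 (hp.dvd_of_dvd_pow h))
  have hnRp : ¬ p ∣ Nat.card R := by
    obtain ⟨k, hk⟩ := IsPGroup.iff_card.1 hR
    rw [hk]
    intro h
    exact hrp ((Nat.prime_dvd_prime_iff_eq hp hr).1 (hp.dvd_of_dvd_pow h)).symm
  -- the join
  have hJ : ¬ p ∣ Nat.card (X ⊔ R : Subgroup G) := by
    rcases hn with hn | hn
    · have := Cfsg.Agent.Lib.Signal.Basic.not_dvd_card_sup_of_le_normalizer hp hn hnRp hnXp
      rwa [sup_comm] at this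
    · exact Cfsg.Agent.Lib.Signal.Basic.not_dvd_card_sup_of_le_normalizer hp hn hnXp hnRp
  have hne : (X ⊔ R : Subgroup G) ≠ ⊤ := by
    intro h
    rw [h, Subgroup.card_top] at hJ
    exact hJ hpG
  have hq2 : q ∣ Nat.card (X ⊔ R : Subgroup G) :=
    hXq.trans (Subgroup.card_dvd_of_le le_sup_left)
  have hnP : ¬ IsPGroup q (X ⊔ R : Subgroup G) := by
    intro hP
    obtain ⟨k, hk⟩ := IsPGroup.iff_card.1 hP
    have : r ∣ Nat.card (X ⊔ R : Subgroup G) := hRr.trans (Subgroup.card_dvd_of_le le_sup_right)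
    rw [hk] at this
    exact hrq ((Nat.prime_dvd_prime_iff_eq hr hq).1 (hr.dvd_of_dvd_pow this))
  exact hJ (hmix _ hne hnP hq2)

/-- A nontrivial `q`-element normalizing a `q'`-subgroup `K` forces the primes of `K` to be `p`. -/
theorem prime_of_dvd_of_normalized (hp : p.Prime) (hq : q.Prime) (hpG : p ∣ Nat.card G)
    (hmix : ∀ H : Subgroup G, H ≠ ⊤ → ¬ IsPGroup q H → q ∣ Nat.card H → p ∣ Nat.card H)
    (hpq : p ≠ q) {K : Subgroup G} {x : G} (hx1 : x ≠ 1) (hxq : PE q x)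
    (hxK : x ∈ normalizer (K : Set G)) (hKq : ¬ q ∣ Nat.card K) {r : ℕ} (hr : r.Prime)
    (hrK : r ∣ Nat.card K) (hrq : r ≠ q) : r = p := by
  by_contra hrp
  haveI : Fact q.Prime := ⟨hq⟩
  haveI : Fact r.Prime := ⟨hr⟩
  have hA : IsPGroup q (zpowers x) := isPGroup_zpowers_of_PE hxq
  have hAN : zpowers x ≤ normalizer (K : Set G) := by
    rw [zpowers_le]
    exact hxK
  have hcop : (Nat.card (zpowers x)).Coprime (Nat.card K) := by
    obtain ⟨k, hk⟩ := IsPGroup.iff_card.1 hA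
    rw [hk]
    exact Nat.Coprime.pow_left k ((Nat.Prime.coprime_iff_not_dvd hq).2 hKq)
  have hsolv : Group.IsSolvable (zpowers x) := inferInstance
  obtain ⟨Q, hQ, hQA⟩ := Cfsg.Agent.Lib.Coprime.Action.exists_invariant_sylowIn (p := r) hAN hcop
    (Or.inl hsolv)
  have hQ1 : Q ≠ ⊥ := by
    rintro rfl
    apply hQ.2.2
    have : (⊥ : Subgroup G).relIndex K = Nat.card K := by
      rw [Subgroup.relIndex_bot_left]
    rw [this]
    exact hrK
  refine no_mixed hp hq hpG hmix hr hrp hrq hpq hA ?_ hQ.2.1 hQ1 (Or.inl hQA)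
  intro h
  apply hx1
  have : x ∈ zpowers x := mem_zpowers x
  rw [h] at this
  exact (Subgroup.mem_bot.1 this)

/-- A `q'`-element normalizing a nontrivial `q`-subgroup is a `p`-element. -/
theorem pe_of_normalizer (hp : p.Prime) (hq : q.Prime) (hpG : p ∣ Nat.card G)
    (hmix : ∀ H : Subgroup G, H ≠ ⊤ → ¬ IsPGroup q H → q ∣ Nat.card H → p ∣ Nat.card H)
    (hpq : p ≠ q) {X : Subgroup G} (hX : IsPGroup q X) (hX1 : X ≠ ⊥) {g : G}
    (hg : g ∈ normalizer (X : Set G)) (hco : Nat.Coprime (orderOf g) q) : PE p g := by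
  have hpos : orderOf g ≠ 0 := (orderOf_pos g).ne'
  have hall : ∀ r, r.Prime → r ∣ orderOf g → r = p := by
    intro r hr hrg
    by_contra hrp
    have hrq : r ≠ q := by
      rintro rfl
      exact (hr.coprime_iff_not_dvd.1 hco.symm) hrg
    haveI : Fact r.Prime := ⟨hr⟩
    have ho : orderOf (g ^ (orderOf g / r)) = r := orderOf_pow_orderOf_div hpos hrg
    have hRp : IsPGroup r (zpowers (g ^ (orderOf g / r))) := by
      apply isPGroup_zpowers_of_PE
      exact PE.of_orderOf (k := 1) (by rw [ho, pow_one])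
    refine no_mixed hp hq hpG hmix hr hrp hrq hpq hX hX1 hRp ?_ (Or.inr ?_)
    · intro h
      have : g ^ (orderOf g / r) ∈ zpowers (g ^ (orderOf g / r)) := mem_zpowers _
      rw [h, Subgroup.mem_bot] at this
      rw [this, orderOf_one] at ho
      exact hr.one_lt.ne ho
    · rw [zpowers_le]
      exact Subgroup.pow_mem _ hg _
  by_cases h1 : orderOf g = 1
  · exact ⟨0, by simpa [orderOf_eq_one_iff.1 h1]⟩
  · have hpd : p ∣ orderOf g := by
      have := Nat.exists_prime_and_dvd h1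
      obtain ⟨r, hr, hrg⟩ := this
      rw [← hall r hr hrg]
      exact hrg
    have := Nat.eq_prime_pow_of_unique_prime_dvd hpos (fun {r} hr hrg => hall r hr hrg)
    exact PE.of_orderOf this

/-- A `q`-subgroup of `G` has order dividing the `q`-part of `|G|`. -/
theorem card_dvd_of_isPGroup (hq : q.Prime) {X : Subgroup G} (hX : IsPGroup q X) :
    Nat.card X ∣ q ^ (Nat.card G).factorization q := by
  haveI : Fact q.Prime := ⟨hq⟩
  obtain ⟨k, hk⟩ := IsPGroup.iff_card.1 hX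
  have hd : q ^ k ∣ Nat.card G := hk ▸ Subgroup.card_subgroup_dvd_card X
  rw [hk]
  exact pow_dvd_pow _ ((hq.pow_dvd_iff_le_factorization Nat.card_pos.ne').1 hd)

/-- The Frobenius condition implies the conclusion. -/
theorem primes_of_frobeniusCond (hp : p.Prime) (hq : q.Prime) (hpG : p ∣ Nat.card G)
    (hqG : q ∣ Nat.card G)
    (hmix : ∀ H : Subgroup G, H ≠ ⊤ → ¬ IsPGroup q H → q ∣ Nat.card H → p ∣ Nat.card H)
    (hpq : p ≠ q) (hF : haveI : Fact q.Prime := ⟨hq⟩; FrobeniusCond q G) :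
    ∀ r : ℕ, r.Prime → r ∣ Nat.card G → r = p ∨ r = q := by
  haveI : Fact q.Prime := ⟨hq⟩
  obtain ⟨P, N, hN, hc⟩ := hasNormalPComplement_of_frobeniusCond hF
  intro r hr hrG
  by_cases hrq : r = q
  · exact Or.inr hrq
  left
  obtain ⟨x, hx⟩ := exists_prime_orderOf_dvd_card' q hqG
  have hx1 : x ≠ 1 := by
    rintro rfl
    rw [orderOf_one] at hx
    exact hq.one_lt.ne hx
  have hcard : Nat.card N * Nat.card P = Nat.card G := hc.card_mul_card
  have hNq : ¬ q ∣ Nat.card N := by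
    have := P.not_dvd_index
    intro hd
    have h3 : (P : Subgroup G).index = Nat.card N := hc.index_eq_card
    rw [h3] at this
    exact this hd
  have hrN : r ∣ Nat.card N := by
    have : r ∣ Nat.card N * Nat.card P := hcard ▸ hrG
    rcases (hr.dvd_mul).1 this with h | h
    · exact h
    · exfalso
      obtain ⟨k, hk⟩ := IsPGroup.iff_card.1 P.isPGroup'
      rw [hk] at h
      exact hrq ((Nat.prime_dvd_prime_iff_eq hr hq).1 (hr.dvd_of_dvd_pow h))
  exact prime_of_dvd_of_normalized hp hq hpG hmix hpq hx1 (PE.of_orderOf (k := 1) (by rw [hx, pow_one]))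
    (by
      rw [Cfsg.Agent.Lib.Transfer.Frobenius.mem_normalizer_iff']
      intro y
      constructor
      · intro hy
        exact hN.conj_mem y hy x
      · intro hy
        have := hN.conj_mem _ hy x⁻¹
        simpa [mul_assoc] using this) hNq hr hrN hrq

/-- The first alternative `q ^ a - 1 < p`. -/
theorem primes_of_large (hp : p.Prime) (hq : q.Prime) (hpq : p ≠ q) (hpG : p ∣ Nat.card G)
    (hqG : q ∣ Nat.card G)
    (hmix : ∀ H : Subgroup G, H ≠ ⊤ → ¬ IsPGroup q H → q ∣ Nat.card H → p ∣ Nat.card H)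
    (hlarge : q ^ (Nat.card G).factorization q - 1 < p) :
    ∀ r : ℕ, r.Prime → r ∣ Nat.card G → r = p ∨ r = q := by
  haveI : Fact q.Prime := ⟨hq⟩
  apply primes_of_frobeniusCond hp hq hpG hqG hmix hpq
  intro X hX g hg hco
  by_cases hX1 : X = ⊥
  · subst hX1
    rw [Cfsg.Agent.Lib.Transfer.Frobenius.mem_centralizer_iff']
    intro x hx
    rw [Subgroup.mem_bot.1 hx]
    group
  have hpe : PE p g := pe_of_normalizer hp hq hpG hmix hpq hX hX1 hg hco
  have hS : ∀ x ∈ (X : Set G) \ {1}, g * x * g⁻¹ ∈ (X : Set G) \ {1} := by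
    rintro x ⟨hx, hx1⟩
    refine ⟨(Cfsg.Agent.Lib.Transfer.Frobenius.mem_normalizer_iff'.1 hg x).1 hx, ?_⟩
    intro h
    apply hx1
    have : g * x * g⁻¹ = 1 := h
    have h2 : x = g⁻¹ * (g * x * g⁻¹) * g := by group
    rw [this] at h2
    simpa using h2
  have hcard : ((X : Set G) \ {1}).ncard < p := by
    have h1 : ((X : Set G) \ {1}).ncard = Nat.card X - 1 := by
      rw [Set.ncard_sdiff_singleton_of_mem (one_mem X)]
      rfl
    rw [h1]
    have h2 : Nat.card X ≤ q ^ (Nat.card G).factorization q :=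
      Nat.le_of_dvd (pow_pos hq.pos _) (card_dvd_of_isPGroup hq hX)
    omega
  have key := conj_trivial hp hpe hS hcard
  rw [Cfsg.Agent.Lib.Transfer.Frobenius.mem_centralizer_iff']
  intro x hx
  by_cases hx1 : x = 1
  · subst hx1
    group
  have := key x ⟨hx, hx1⟩
  have h3 : g * x = x * g := this
  rw [h3]
  group

end mixed

end Cfsg.Agent.Lib.MixedPrime
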