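import Cfsg.Agent.Lib.MixedPrime.BranchTwo

/-!
# Mixed subgroups and primes: the TI branch
-/

set_option autoImplicit false

namespace Cfsg.Agent.Lib.MixedPrime

open Cfsg Cfsg.Agent.Lib.Transfer.Basic Cfsg.Agent.Lib.Transfer.Frobenius
open Subgroup

universe u

variable {G : Type u} [Group G]

/-- The hypothesis of the first branch. -/
def BI (p : ℕ) (Q : Subgroup G) : Prop :=
  ∀ t ∈ Q, t ≠ 1 → ∀ d, PE p d → Commute d t → ∀ s ∈ Q, Commute d s

theorem BI.conj {p : ℕ} {Q : Subgroup G} (h : BI p Q) (g : G) : BI p (conjS g Q) := by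
  intro t ht ht1 d hd hdt s hs
  rw [mem_conjS] at ht hs
  have n1 : g⁻¹ * t * g ≠ 1 := by
    intro h'
    apply ht1
    have : t = g * (g⁻¹ * t * g) * g⁻¹ := by group
    rw [this, h']
    group
  have hd' : PE p (g⁻¹ * d * g) := by
    have := hd.conj g⁻¹
    simpa using this
  have hdt' : Commute (g⁻¹ * d * g) (g⁻¹ * t * g) := by
    have h1 : d * t = t * d := hdt
    change (g⁻¹ * d * g) * (g⁻¹ * t * g) = (g⁻¹ * t * g) * (g⁻¹ * d * g)
    calc (g⁻¹ * d * g) * (g⁻¹ * t * g) = g⁻¹ * (d * t) * g := by group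
      _ = g⁻¹ * (t * d) * g := by rw [h1]
      _ = _ := by group
  have h3 : (g⁻¹ * d * g) * (g⁻¹ * s * g) = (g⁻¹ * s * g) * (g⁻¹ * d * g) :=
    h _ ht n1 _ hd' hdt' _ hs
  have h4 : g⁻¹ * (d * s) * g = g⁻¹ * (s * d) * g := by
    calc g⁻¹ * (d * s) * g = (g⁻¹ * d * g) * (g⁻¹ * s * g) := by group
      _ = (g⁻¹ * s * g) * (g⁻¹ * d * g) := h3
      _ = _ := by group
  have h5 := mul_left_cancel (mul_right_cancel h4)
  exact h5

theorem conj_cen_of_inverted {u s x : G} (hs : s * s = 1) (hinv : s * u * s⁻¹ = u⁻¹)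
    (hx : Commute x u) : Commute (s * x * s⁻¹) u := by
  have hsi : s⁻¹ = s := inv_of_sq hs
  have h1 : s * u * s = u⁻¹ := by rwa [hsi] at hinv
  have h2 : s * u⁻¹ * s = u := by
    have : s * u⁻¹ * s = (s * u * s)⁻¹ := by
      rw [mul_inv_rev, mul_inv_rev, hsi]
      group
    rw [this, h1, inv_inv]
  have h3 : x * u⁻¹ = u⁻¹ * x := hx.inv_right.eq
  change (s * x * s⁻¹) * u = u * (s * x * s⁻¹)
  rw [hsi]
  calc s * x * s * u = s * x * (s * u * s) * s := by
        rw [show s * x * (s * u * s) * s = s * x * s * u * (s * s) by group, hs, mul_one]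
    _ = s * (x * u⁻¹) * s := by rw [h1]; group
    _ = s * (u⁻¹ * x) * s := by rw [h3]
    _ = (s * u⁻¹ * s) * (s * x * s) := by
        rw [show (s * u⁻¹ * s) * (s * x * s) = s * u⁻¹ * (s * s) * x * s by group, hs, mul_one]
        group
    _ = u * (s * x * s) := by rw [h2]

namespace Ctx

variable [Finite G] {p a : ℕ}

theorem exists_invol_of_dvd {L : Subgroup G} (h2 : 2 ∣ Nat.card L) :
    ∃ w ∈ L, w * w = 1 ∧ w ≠ 1 := by
  obtain ⟨t, ht⟩ := exists_prime_orderOf_dvd_card' (G := L) 2 h2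
  refine ⟨t, t.2, ?_, ?_⟩
  · have : t ^ 2 = 1 := by rw [← ht, pow_orderOf_eq_one]
    have h3 := congrArg Subtype.val this
    simpa [pow_two] using h3
  · intro h'
    have : t = 1 := Subtype.ext h'
    rw [this, orderOf_one] at ht
    omega

/-- An involution commuting with a nonidentity element of `T` lies in `T`. -/
theorem mem_of_comm_mem (C : Ctx G p a) {T : Subgroup G} {z : G} (hT : Good p a T z) (hB : BI p T)
    {w t : G} (hw : w ∈ T) (hw1 : w ≠ 1) (htt : t * t = 1) (htw : Commute t w) : t ∈ T := by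
  obtain ⟨K, h1, h2, -, -, h5⟩ := C.cent_struct (hT.sq w hw) hw1
  have hcom := comm_of_sq hT.sq
  have hTc : T ≤ cen w := fun x hx => mem_cen.2 (hcom x hx w hw)
  obtain ⟨k, hk, τ, hτ, hkτ⟩ := h5 T hTc hT.card t htw
  have hkpe : PE p k := PE.of_mem h1 hk
  have hkw : Commute k w := mem_cen.1 (h2 hk)
  have hkτc : Commute k τ := hB w hw hw1 k hkpe hkw τ hτ
  have hkk : k * k = 1 := by
    have h3 : (k * τ) * (k * τ) = 1 := by rw [hkτ, htt]
    have h4 : (k * τ) * (k * τ) = (k * k) * (τ * τ) := by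
      calc (k * τ) * (k * τ) = k * (τ * k) * τ := by group
        _ = k * (k * τ) * τ := by rw [hkτc.symm.eq]
        _ = _ := by group
    rw [h4, hT.sq τ hτ, mul_one] at h3
    exact h3
  have hk1 : k = 1 := C.eq_one hkpe hkk
  rw [hk1, one_mul] at hkτ
  rw [← hkτ]
  exact hτ

/-- Two non-commuting involutions have a product which is a nontrivial `p`-element. -/
theorem pe_mul (C : Ctx G p a) {Q : Subgroup G} {y : G} (h : Good p a Q y) (hB : BI p Q) {s t : G}
    (hss : s * s = 1) (htt : t * t = 1) (ht1 : t ≠ 1) (hst : ¬ Commute s t) :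
    PE p (s * t) ∧ s * t ≠ 1 := by
  have hne : s * t ≠ 1 := by
    intro h'
    apply hst
    have h3 : s = t := by
      have : s * t = t * t := by rw [h', htt]
      exact mul_right_cancel this
    rw [h3]
  have hsi : s⁻¹ = s := inv_of_sq hss
  have hti : t⁻¹ = t := inv_of_sq htt
  have hinvt : t * (s * t) * t⁻¹ = (s * t)⁻¹ := by
    rw [hti, mul_inv_rev, hti, hsi]
    calc t * (s * t) * t = t * s * (t * t) := by group
      _ = t * s := by rw [htt, mul_one]
  have hinvs : s * (s * t) * s⁻¹ = (s * t)⁻¹ := by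
    rw [hsi, mul_inv_rev, hti, hsi]
    calc s * (s * t) * s = (s * s) * (t * s) := by group
      _ = t * s := by rw [hss, one_mul]
  refine ⟨?_, hne⟩
  by_cases hco : Nat.Coprime (orderOf (s * t)) 2
  · exact C.pe_of_inverted htt ht1 hinvt hco
  exfalso
  have h2 : 2 ∣ orderOf (s * t) := by
    by_contra h'
    exact hco ((Nat.prime_two.coprime_iff_not_dvd.2 h').symm)
  obtain ⟨m, hm⟩ := h2
  have hpos : 0 < orderOf (s * t) := orderOf_pos _
  set w := (s * t) ^ m with hw
  have hw1 : w ≠ 1 := pow_ne_one_of_lt_orderOf (by omega) (by omega)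
  have hww : w * w = 1 := by
    rw [hw, ← pow_add, ← two_mul, ← hm, pow_orderOf_eq_one]
  have hwi : w⁻¹ = w := inv_of_sq hww
  have hwt : Commute t w := by
    have h3 : t * w * t⁻¹ = w := by
      rw [hw, ← conj_pow, hinvt, inv_pow, ← hw, hwi]
    change t * w = w * t
    calc t * w = (t * w * t⁻¹) * t := by group
      _ = w * t := by rw [h3]
  have hws : Commute s w := by
    have h3 : s * w * s⁻¹ = w := by
      rw [hw, ← conj_pow, hinvs, inv_pow, ← hw, hwi]
    change s * w = w * s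
    calc s * w = (s * w * s⁻¹) * s := by group
      _ = w * s := by rw [h3]
  obtain ⟨g, hg⟩ := C.exists_good_mem h hww
  have hGood := h.conj g
  have hB' := hB.conj g
  have ht' := C.mem_of_comm_mem hGood hB' hg hw1 htt hwt
  have hs' := C.mem_of_comm_mem hGood hB' hg hw1 hss hws
  exact hst (comm_of_sq hGood.sq _ hs' _ ht')

/-- No involution commutes with a `p`-element inverted by an involution. -/
theorem no_invol_comm (C : Ctx G p a) {Q : Subgroup G} {y : G} (h : Good p a Q y) (hB : BI p Q)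
    {u s : G} (hu : PE p u) (hu1 : u ≠ 1) (hs : s * s = 1) (hinv : s * u * s⁻¹ = u⁻¹) {w : G}
    (hw : w * w = 1) (hw1 : w ≠ 1) (huw : Commute u w) : False := by
  obtain ⟨g, hg⟩ := C.exists_good_mem h hw
  have hGood := h.conj g
  have hB' := hB.conj g
  have hT : conjS g Q ≤ cen u := fun x hx => mem_cen.2 (hB' w hg hw1 u hu huw x hx).symm
  exact C.no_full_of_inverted hu hu1 hs hinv hT hGood.card

theorem odd_cen (C : Ctx G p a) {Q : Subgroup G} {y : G} (h : Good p a Q y) (hB : BI p Q)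
    {u s : G} (hu : PE p u) (hu1 : u ≠ 1) (hs : s * s = 1) (hinv : s * u * s⁻¹ = u⁻¹) :
    ¬ 2 ∣ Nat.card (cen u) := by
  intro h2
  obtain ⟨w, hwL, hww, hw1⟩ := exists_invol_of_dvd h2
  exact C.no_invol_comm h hB hu hu1 hs hinv hww hw1 (mem_cen.1 hwL).symm

/-- `C(u) ∩ C(t) = 1` if `t` inverts `u`. -/
theorem cen_inf_cen (C : Ctx G p a) {Q : Subgroup G} {y : G} (h : Good p a Q y) (hB : BI p Q)
    {u t : G} (hu : PE p u) (hu1 : u ≠ 1) (htt : t * t = 1) (ht1 : t ≠ 1)
    (hinv : t * u * t⁻¹ = u⁻¹) {d : G} (hdu : Commute d u) (hdt : Commute d t) : d = 1 := by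
  by_contra hd1
  have hodd := C.odd_cen h hB hu hu1 htt hinv
  have hdL : d ∈ cen u := mem_cen.2 hdu
  have hod : orderOf d ∣ Nat.card (cen u) := by
    have := orderOf_dvd_natCard (⟨d, hdL⟩ : cen u)
    rwa [Subgroup.orderOf_mk] at this
  have hpos : orderOf d ≠ 0 := (orderOf_pos d).ne'
  have hne : cen t ≠ ⊤ := C.centralizer_ne_top h ht1
  have h2t : 2 ∣ Nat.card (cen t) := two_dvd_of_mem (mem_cen.2 (Commute.refl t)) htt ht1
  have hodt : orderOf d ∣ Nat.card (cen t) := by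
    have := orderOf_dvd_natCard (⟨d, mem_cen.2 hdt⟩ : cen t)
    rwa [Subgroup.orderOf_mk] at this
  have hdpe : PE p d := by
    apply PE.of_orderOf
    apply Nat.eq_prime_pow_of_unique_prime_dvd hpos
    intro r hr hrd
    rcases C.hF1 _ hne h2t r hr (hrd.trans hodt) with h' | h'
    · exact h'
    · exfalso
      rw [h'] at hrd
      exact hodd (hrd.trans hod)
  obtain ⟨g, hg⟩ := C.exists_good_mem h htt
  have hGood := h.conj g
  have hB' := hB.conj g
  have hdT : ∀ s ∈ conjS g Q, Commute d s := fun s hs => hB' t hg ht1 d hdpe hdt s hs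
  have hyd := C.comm_y hGood hg ht1 hdpe hdT
  have hne' : cen d ≠ ⊤ := C.centralizer_ne_top h hd1
  have hTL : conjS g Q ≤ cen d := fun x hx => mem_cen.2 (hdT x hx).symm
  exact hu1 (C.no_inverted_in hGood hne' hTL (mem_cen.2 hyd) (mem_cen.2 hdu.symm) hu hg ht1 hinv)

/-- `t` inverts all of `C(u)`. -/
theorem inverts_cen (C : Ctx G p a) {Q : Subgroup G} {y : G} (h : Good p a Q y) (hB : BI p Q)
    {u t : G} (hu : PE p u) (hu1 : u ≠ 1) (htt : t * t = 1) (ht1 : t ≠ 1)
    (hinv : t * u * t⁻¹ = u⁻¹) : ∀ c ∈ cen u, t * c * t⁻¹ = c⁻¹ := by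
  have hdef : ∀ x ∈ cen u, x⁻¹ * (t * x * t⁻¹) ∈ cen u := by
    intro x hx
    refine Subgroup.mul_mem _ (Subgroup.inv_mem _ hx) ?_
    exact mem_cen.2 (conj_cen_of_inverted htt hinv (mem_cen.1 hx))
  let f : cen u → cen u := fun x => ⟨x⁻¹ * (t * x * t⁻¹), hdef x x.2⟩
  have hinj : Function.Injective f := by
    intro x z hxz
    have h1 : (x : G)⁻¹ * (t * x * t⁻¹) = (z : G)⁻¹ * (t * z * t⁻¹) := congrArg Subtype.val hxz
    -- `z * x⁻¹` commutes with `t`
    have h2 : Commute ((z : G) * (x : G)⁻¹) t := by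
      change ((z : G) * (x : G)⁻¹) * t = t * ((z : G) * (x : G)⁻¹)
      have h2' : (x : G)⁻¹ * t * x = (z : G)⁻¹ * t * z := by
        calc (x : G)⁻¹ * t * x = ((x : G)⁻¹ * (t * x * t⁻¹)) * t := by group
          _ = ((z : G)⁻¹ * (t * z * t⁻¹)) * t := by rw [h1]
          _ = (z : G)⁻¹ * t * z := by group
      calc ((z : G) * (x : G)⁻¹) * t = (z : G) * ((x : G)⁻¹ * t * x) * (x : G)⁻¹ := by group
        _ = (z : G) * ((z : G)⁻¹ * t * z) * (x : G)⁻¹ := by rw [h2']
        _ = t * ((z : G) * (x : G)⁻¹) := by group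
    have h5 : (z : G) * (x : G)⁻¹ ∈ cen u := Subgroup.mul_mem _ z.2 (Subgroup.inv_mem _ x.2)
    have h6 := C.cen_inf_cen h hB hu hu1 htt ht1 hinv (mem_cen.1 h5) h2
    apply Subtype.ext
    have : (z : G) = x := by
      have h8 : (z : G) = ((z : G) * (x : G)⁻¹) * x := by group
      rw [h8, h6, one_mul]
    exact this.symm
  have hsurj : Function.Surjective f := Finite.injective_iff_surjective.1 hinj
  intro c hc
  obtain ⟨x, hx⟩ := hsurj ⟨c, hc⟩
  have hcx : (x : G)⁻¹ * (t * x * t⁻¹) = c := congrArg Subtype.val hx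
  rw [← hcx]
  exact conj_commutator_inv htt

/-- For `u` inverted by an involution, `C(u)` is a Sylow `p`-subgroup inverted by the involution. -/
theorem cen_eq_sylow (C : Ctx G p a) {Q : Subgroup G} {y : G} (h : Good p a Q y) (hB : BI p Q)
    {u t : G} (hu : PE p u) (hu1 : u ≠ 1) (htt : t * t = 1) (ht1 : t ≠ 1)
    (hinv : t * u * t⁻¹ = u⁻¹) {P : Sylow p G} (huP : u ∈ P) : cen u = P := by
  haveI := C.fact_p
  have hall := C.inverts_cen h hB hu hu1 htt ht1 hinv
  have hodd := C.odd_cen h hB hu hu1 htt hinv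
  have hPL : (P : Subgroup G) ≤ cen u := fun c hc => mem_cen.2 (C.sylow_comm P hc huP)
  have hpg : IsPGroup p (cen u) := by
    intro c
    have hco : Nat.Coprime (orderOf (c : G)) 2 := by
      have h1 : orderOf (c : G) ∣ Nat.card (cen u) := by
        rw [Subgroup.orderOf_coe]
        exact orderOf_dvd_natCard c
      exact ((Nat.prime_two.coprime_iff_not_dvd.2 (fun h' => hodd (h'.trans h1))).symm)
    obtain ⟨k, hk⟩ := C.pe_of_inverted htt ht1 (hall c c.2) hco
    exact ⟨k, Subtype.ext hk⟩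
  exact P.is_maximal' hpg hPL

/-- A square root inside a subgroup for a `p`-element, `p` odd. -/
theorem exists_sqrt (C : Ctx G p a) {X : Subgroup G} {x : G} (hx : x ∈ X) (hpe : PE p x) :
    ∃ z ∈ X, z * z = x := by
  obtain ⟨k, hk⟩ := hpe.orderOf_eq C.hp
  have hodd : Odd (orderOf x) := by
    rw [hk]
    exact Odd.pow (C.hp.odd_of_ne_two C.hp2)
  obtain ⟨m, hm⟩ := hodd
  refine ⟨x ^ (m + 1), X.pow_mem hx _, ?_⟩
  rw [← pow_add]
  have : m + 1 + (m + 1) = orderOf x + 1 := by omega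
  rw [this, pow_succ, pow_orderOf_eq_one, one_mul]

/-- The first branch: counting involutions. -/
theorem branch_one (C : Ctx G p a) {Q : Subgroup G} {y : G} (h : Good p a Q y) (hB : BI p Q) :
    False := by
  haveI := C.fact_p
  classical
  have hcom := comm_of_sq h.sq
  -- a noncommuting pair
  obtain ⟨z, t, hzz, htQ, ht1, hzt⟩ : ∃ z t, z * z = 1 ∧ t ∈ Q ∧ t ≠ 1 ∧ ¬ Commute z t := by
    have h1 : ∃ g w, w ∈ Q ∧ g * w * g⁻¹ ∉ Q := by
      by_contra hcon
      push Not at hcon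
      apply C.normalizer_ne_top h
      rw [eq_top_iff]
      intro g _
      exact mem_nor_of_forall (hcon g)
    obtain ⟨g, w, hw, hgw⟩ := h1
    refine ⟨g * w * g⁻¹, ?_⟩
    have hww := h.sq w hw
    have hzz : (g * w * g⁻¹) * (g * w * g⁻¹) = 1 := by
      calc (g * w * g⁻¹) * (g * w * g⁻¹) = g * (w * w) * g⁻¹ := by group
        _ = 1 := by rw [hww]; group
    by_contra hcon
    push Not at hcon
    set z := g * w * g⁻¹ with hz
    have hall : ∀ t ∈ Q, t ≠ 1 → Commute z t := fun t ht ht1 => hcon t hzz ht ht1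
    have hzN : zpowers z ≤ normalizer (Q : Set G) := by
      rw [zpowers_le]
      apply mem_nor_of_forall
      intro x hx
      by_cases hx1 : x = 1
      · rw [hx1]
        simp
      have : z * x = x * z := hall x hx hx1
      rw [this]
      simpa using hx
    have hZ : IsPGroup 2 (zpowers z) := isPGroup_zpowers_of_PE ⟨1, by rw [pow_one, pow_two, hzz]⟩
    have hsup : IsPGroup 2 (Q ⊔ zpowers z : Subgroup G) :=
      IsPGroup.to_sup_of_normal_left' h.isPGroup hZ hzN
    have hd := C.card_dvd_two hsup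
    have hle : Nat.card (Q ⊔ zpowers z : Subgroup G) ≤ Nat.card Q := by
      rw [h.card]
      exact Nat.le_of_dvd (by positivity) hd
    have heq : Q = Q ⊔ zpowers z := Subgroup.eq_of_le_of_card_ge le_sup_left hle
    apply hgw
    rw [heq]
    exact mem_sup_right (mem_zpowers z)
  have htt := h.sq t htQ
  have hzero : z * t ≠ 1 ∧ PE p (z * t) := by
    have := C.pe_mul h hB hzz htt ht1 hzt
    exact ⟨this.2, this.1⟩
  set x₀ := z * t with hx₀
  have hti : t⁻¹ = t := inv_of_sq htt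
  have hzi : z⁻¹ = z := inv_of_sq hzz
  have hinv₀ : t * x₀ * t⁻¹ = x₀⁻¹ := by
    rw [hx₀, hti, mul_inv_rev, hti, hzi]
    calc t * (z * t) * t = t * z * (t * t) := by group
      _ = t * z := by rw [htt, mul_one]
  obtain ⟨P₀, hx₀P⟩ := C.exists_sylow_mem hzero.2
  have hcen₀ : cen x₀ = P₀ := C.cen_eq_sylow h hB hzero.2 hzero.1 htt ht1 hinv₀ hx₀P
  have hP₀inv : ∀ c ∈ P₀, t * c * t⁻¹ = c⁻¹ := by
    intro c hc
    apply C.inverts_cen h hB hzero.2 hzero.1 htt ht1 hinv₀
    rw [hcen₀]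
    exact hc
  -- every Sylow subgroup is inverted by an involution
  have hSyl : ∀ P : Sylow p G, ∃ r : G, r * r = 1 ∧ r ≠ 1 ∧ ∀ c ∈ P, r * c * r⁻¹ = c⁻¹ := by
    intro P
    obtain ⟨g, hg⟩ := MulAction.exists_smul_eq G P₀ P
    refine ⟨g * t * g⁻¹, ?_, ?_, ?_⟩
    · calc (g * t * g⁻¹) * (g * t * g⁻¹) = g * (t * t) * g⁻¹ := by group
        _ = 1 := by rw [htt]; group
    · intro h'
      apply ht1
      have h6 : t = g⁻¹ * (g * t * g⁻¹) * g := by group
      rw [h6, h']
      simp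
    · intro c hc
      rw [← hg] at hc
      have hc' := (mem_smul_sylow_iff g c P₀).1 hc
      have h1 := hP₀inv _ hc'
      calc (g * t * g⁻¹) * c * (g * t * g⁻¹)⁻¹ = g * (t * (g⁻¹ * c * g) * t⁻¹) * g⁻¹ := by group
        _ = c⁻¹ := by rw [h1]; group
  -- no involution commutes with a nontrivial `p`-element
  have hNo : ∀ v : G, PE p v → v ≠ 1 → ∀ w : G, w * w = 1 → w ≠ 1 → ¬ Commute v w := by
    intro v hv hv1 w hww hw1 hvw
    obtain ⟨P, hvP⟩ := C.exists_sylow_mem hv
    obtain ⟨r, hrr, hr1, hr⟩ := hSyl P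
    exact C.no_invol_comm h hB hv hv1 hrr (hr v hvP) hww hw1 hvw
  have hCenSyl : ∀ v, v ≠ 1 → ∀ P : Sylow p G, v ∈ P → cen v = P := by
    intro v hv1 P hvP
    obtain ⟨r, hrr, hr1, hr⟩ := hSyl P
    exact C.cen_eq_sylow h hB (PE.of_mem P.isPGroup' hvP) hv1 hrr hr1 (hr v hvP) hvP
  -- `C(t) = Q`
  have hCtQ : ∀ g, Commute g t → g ∈ Q := by
    intro g hg
    obtain ⟨K, h1, h2, -, -, h5⟩ := C.cent_struct htt ht1
    have hQt : Q ≤ cen t := fun w hw => mem_cen.2 (hcom w hw t htQ)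
    obtain ⟨k, hk, w, hw, hkw⟩ := h5 Q hQt h.card g hg
    have hk1 : k = 1 := by
      by_contra hk1
      exact hNo k (PE.of_mem h1 hk) hk1 t htt ht1 (mem_cen.1 (h2 hk))
    rw [hk1, one_mul] at hkw
    rw [← hkw]
    exact hw
  -- `y ≠ 1`
  have hy1 : y ≠ 1 := by
    rintro rfl
    obtain ⟨w, hw, hw1, hwt⟩ := C.exists_other h t
    obtain ⟨n, hn⟩ := h.trans t htQ ht1 w hw hw1
    simp at hn
    exact hwt hn.symm
  -- the set of involutions
  set I₀ : Set G := {g | g * g = 1 ∧ g ≠ 1} with hI₀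
  have hdvd : p ∣ I₀.ncard := by
    have hconj : ∀ (g : G) (s : I₀), g * (s : G) * g⁻¹ ∈ I₀ := by
      rintro g ⟨s, hs, hs1⟩
      constructor
      · calc g * s * g⁻¹ * (g * s * g⁻¹) = g * (s * s) * g⁻¹ := by group
          _ = 1 := by rw [hs]; group
      · intro h'
        apply hs1
        have h6 : s = g⁻¹ * (g * s * g⁻¹) * g := by group
        rw [h6, h']
        simp
    letI act : MulAction G I₀ :=
      { smul := fun g s => ⟨g * s * g⁻¹, hconj g s⟩
        one_smul := fun s => Subtype.ext (by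
          change 1 * (s : G) * 1⁻¹ = s
          simp)
        mul_smul := fun g₁ g₂ s => Subtype.ext (by
          change (g₁ * g₂) * (s : G) * (g₁ * g₂)⁻¹ = g₁ * (g₂ * (s : G) * g₂⁻¹) * g₁⁻¹
          group) }
    have hZ : IsPGroup p (zpowers y) := isPGroup_zpowers_of_PE h.pe
    have hmod := hZ.card_modEq_card_fixedPoints I₀
    have hemp : IsEmpty (MulAction.fixedPoints (zpowers y) I₀) := by
      refine ⟨fun s => ?_⟩
      have hfix := s.2 ⟨y, mem_zpowers y⟩
      have h1 : y * ((s : I₀) : G) * y⁻¹ = ((s : I₀) : G) := congrArg Subtype.val hfix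
      apply hNo y h.pe hy1 ((s : I₀) : G) s.1.2.1 s.1.2.2
      change y * ((s : I₀) : G) = ((s : I₀) : G) * y
      calc y * ((s : I₀) : G) = (y * ((s : I₀) : G) * y⁻¹) * y := by group
        _ = _ := by rw [h1]
    have h0 : Nat.card (MulAction.fixedPoints (zpowers y) I₀) = 0 := Nat.card_of_isEmpty
    rw [h0] at hmod
    exact (Nat.modEq_zero_iff_dvd.1 hmod)
  -- decomposition of the involutions
  set S₁ : Set G := (Q : Set G) \ {1} with hS₁
  have hS₁c : S₁.ncard = p := by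
    have h5 : S₁.ncard = Nat.card Q - 1 := by
      rw [hS₁, Set.ncard_sdiff_singleton_of_mem (one_mem Q)]
      rfl
    rw [h5, h.card, C.pow_eq]
    simp
  have hS₁I : S₁ ⊆ I₀ := fun w hw => ⟨h.sq w hw.1, hw.2⟩
  set Xi : Set G := {x | x ≠ 1 ∧ PE p x ∧ t * x * t⁻¹ = x⁻¹} with hXi
  have hS₂ : I₀ \ S₁ = (fun x => x * t) '' Xi := by
    ext s
    constructor
    · rintro ⟨⟨hss, hs1⟩, hsS⟩
      have hsQ : s ∉ Q := fun h' => hsS ⟨h', hs1⟩
      have hnc : ¬ Commute s t := fun h' => hsQ (hCtQ s h')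
      obtain ⟨hpe, hne⟩ := C.pe_mul h hB hss htt ht1 hnc
      refine ⟨s * t, ⟨hne, hpe, ?_⟩, ?_⟩
      · have hsi : s⁻¹ = s := inv_of_sq hss
        rw [hti, mul_inv_rev, hti, hsi]
        calc t * (s * t) * t = t * s * (t * t) := by group
          _ = t * s := by rw [htt, mul_one]
      · change s * t * t = s
        rw [mul_assoc, htt, mul_one]
    · rintro ⟨x, ⟨hx1, hxpe, hxinv⟩, rfl⟩
      have hxt : t * x * t = x⁻¹ := by rwa [hti] at hxinv
      refine ⟨⟨?_, ?_⟩, ?_⟩
      · change x * t * (x * t) = 1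
        calc x * t * (x * t) = x * (t * x * t) := by group
          _ = 1 := by rw [hxt]; group
      · intro h'
        have h1 : x * t = 1 := h'
        have h2 : x = t := by
          have : x * t = t * t := by rw [h1, htt]
          exact mul_right_cancel this
        rw [h2] at hxpe
        exact ht1 (C.eq_one hxpe htt)
      · rintro ⟨h1, -⟩
        have h1' : x * t ∈ Q := h1
        have h2 : x ∈ Q := by
          have h3 := Q.mul_mem h1' htQ
          rwa [mul_assoc, htt, mul_one] at h3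
        exact hx1 (C.eq_one hxpe (h.sq x h2))
  have hI₀c : I₀.ncard = p + Xi.ncard := by
    have h1 := Set.ncard_sdiff_add_ncard_of_subset hS₁I (Set.toFinite _)
    rw [hS₂, hS₁c] at h1
    have h2 : ((fun x => x * t) '' Xi).ncard = Xi.ncard :=
      Set.ncard_image_of_injective _ (mul_left_injective t)
    rw [h2] at h1
    omega
  -- partition of `Xi`
  set Sig : Set (Sylow p G) := {P | ∀ c ∈ P, t * c * t⁻¹ = c⁻¹} with hSig
  let A : Sylow p G → Set G := fun P => {c | c ∈ P ∧ c ≠ 1}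
  have hXiU : Xi = ⋃ P ∈ Sig, A P := by
    ext x
    simp only [Set.mem_iUnion, exists_prop]
    constructor
    · rintro ⟨hx1, hxpe, hxinv⟩
      obtain ⟨P, hxP⟩ := C.exists_sylow_mem hxpe
      refine ⟨P, ?_, hxP, hx1⟩
      intro c hc
      have hcen := C.cen_eq_sylow h hB hxpe hx1 htt ht1 hxinv hxP
      apply C.inverts_cen h hB hxpe hx1 htt ht1 hxinv
      rw [hcen]
      exact hc
    · rintro ⟨P, hP, hxP, hx1⟩
      exact ⟨hx1, PE.of_mem P.isPGroup' hxP, hP x hxP⟩
  have hdisj : Sig.PairwiseDisjoint A := by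
    intro P₁ _ P₂ _ hne
    rw [Function.onFun, Set.disjoint_left]
    rintro c ⟨hc1, hcne⟩ ⟨hc2, -⟩
    apply hne
    apply Sylow.ext
    rw [← hCenSyl c hcne P₁ hc1, hCenSyl c hcne P₂ hc2]
  obtain ⟨e, he⟩ : ∃ e : ℕ, Nat.card (P₀ : Subgroup G) = p ^ e := ⟨_, Sylow.card_eq_multiplicity P₀⟩
  have hAc : ∀ P : Sylow p G, (A P).ncard = p ^ e - 1 := by
    intro P
    have h1 : A P = ((P : Subgroup G) : Set G) \ {1} := by
      ext c
      simp [A]
    rw [h1, Set.ncard_sdiff_singleton_of_mem (one_mem (P : Subgroup G))]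
    have h2 : Nat.card (P : Subgroup G) = p ^ e := by
      rw [Sylow.card_eq_multiplicity, ← Sylow.card_eq_multiplicity P₀, he]
    have h3 : ((P : Subgroup G) : Set G).ncard = Nat.card (P : Subgroup G) := rfl
    rw [h3, h2]
  have hXic : Xi.ncard = Sig.ncard * (p ^ e - 1) := by
    rw [hXiU, Set.Finite.ncard_biUnion (Set.toFinite _) (fun _ _ => Set.toFinite _) hdisj]
    rw [finsum_mem_congr rfl (fun P _ => hAc P)]
    rw [finsum_mem_eq_finite_toFinset_sum _ (Set.toFinite Sig), Finset.sum_const, smul_eq_mul,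
      Set.ncard_eq_toFinset_card Sig (Set.toFinite Sig)]
  have he0 : e ≠ 0 := by
    rintro rfl
    have h1 : (P₀ : Subgroup G) = ⊥ := by
      apply (Subgroup.eq_bot_iff_card _).2
      rw [he, pow_zero]
    exact P₀.ne_bot_of_dvd_card C.hpG h1
  have hpSig : p ∣ Sig.ncard := by
    have h1 : p ∣ Sig.ncard * (p ^ e - 1) := by
      rw [← hXic]
      rw [hI₀c] at hdvd
      exact (Nat.dvd_add_right (dvd_refl p)).1 hdvd
    have hco : Nat.Coprime p (p ^ e - 1) := by
      have hp1 : 1 ≤ p ^ e := Nat.one_le_pow _ _ C.hp.pos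
      rw [C.hp.coprime_iff_not_dvd]
      intro h2
      have h3 : p ∣ p ^ e := dvd_pow_self p he0
      have h4 : p ∣ 1 := by
        have : p ^ e = (p ^ e - 1) + 1 := by omega
        rw [this] at h3
        exact (Nat.dvd_add_right h2).1 h3
      exact C.hp.one_lt.ne' (Nat.dvd_one.1 h4)
    exact hco.dvd_of_dvd_mul_right h1
  -- `Sig` is an orbit of `Q`
  have hOrb : Sig = MulAction.orbit Q P₀ := by
    ext P₂
    constructor
    · intro hP₂
      obtain ⟨g, hg⟩ := MulAction.exists_smul_eq G P₀ P₂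
      set t₂ := g * t * g⁻¹ with ht₂
      have ht₂inv : ∀ c ∈ P₂, t₂ * c * t₂⁻¹ = c⁻¹ := by
        intro c hc
        rw [← hg] at hc
        have hc' := (mem_smul_sylow_iff g c P₀).1 hc
        have h1 := hP₀inv _ hc'
        calc t₂ * c * t₂⁻¹ = g * (t * (g⁻¹ * c * g) * t⁻¹) * g⁻¹ := by rw [ht₂]; group
          _ = c⁻¹ := by rw [h1]; group
      have hπ₀ : ∀ c ∈ P₂, Commute (t * t₂) c := by
        intro c hc
        have h1 := ht₂inv c hc
        have h2 := hP₂ c⁻¹ (P₂.inv_mem hc)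
        rw [inv_inv] at h2
        have h3 : (t * t₂) * c * (t * t₂)⁻¹ = c := by
          calc (t * t₂) * c * (t * t₂)⁻¹ = t * (t₂ * c * t₂⁻¹) * t⁻¹ := by group
            _ = c := by rw [h1, h2]
        change (t * t₂) * c = c * (t * t₂)
        calc (t * t₂) * c = ((t * t₂) * c * (t * t₂)⁻¹) * (t * t₂) := by group
          _ = c * (t * t₂) := by rw [h3]
      -- a nontrivial element of `P₂`
      obtain ⟨v, hv1⟩ := (Subgroup.ne_bot_iff_exists_ne_one).1 (P₂.ne_bot_of_dvd_card C.hpG)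
      have hv1' : (v : G) ≠ 1 := fun h' => hv1 (Subtype.ext h')
      have hπmem : t * t₂ ∈ P₂ := by
        have : t * t₂ ∈ cen (v : G) := mem_cen.2 (hπ₀ v v.2)
        rw [hCenSyl v hv1' P₂ v.2] at this
        exact this
      obtain ⟨π₁, hπ₁, hπ₁s⟩ := C.exists_sqrt hπmem (PE.of_mem P₂.isPGroup' hπmem)
      have htπ : t * π₁ * t⁻¹ = π₁⁻¹ := hP₂ π₁ hπ₁
      have ht₂e : t₂ = π₁⁻¹ * t * π₁ := by
        have h1 : t₂ = t * (t * t₂) := by
          rw [← mul_assoc, htt, one_mul]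
        rw [h1, ← hπ₁s]
        have h2 : t * π₁ = π₁⁻¹ * t := by
          calc t * π₁ = (t * π₁ * t⁻¹) * t := by group
            _ = π₁⁻¹ * t := by rw [htπ]
        calc t * (π₁ * π₁) = (t * π₁) * π₁ := by group
          _ = π₁⁻¹ * t * π₁ := by rw [h2]
      have hcomm : Commute (π₁ * g) t := by
        have h1 : (π₁ * g) * t * (π₁ * g)⁻¹ = t := by
          calc (π₁ * g) * t * (π₁ * g)⁻¹ = π₁ * t₂ * π₁⁻¹ := by rw [ht₂]; group
            _ = t := by rw [ht₂e]; group
        change (π₁ * g) * t = t * (π₁ * g)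
        calc (π₁ * g) * t = ((π₁ * g) * t * (π₁ * g)⁻¹) * (π₁ * g) := by group
          _ = t * (π₁ * g) := by rw [h1]
      have hQmem : π₁ * g ∈ Q := hCtQ _ hcomm
      refine ⟨⟨π₁ * g, hQmem⟩, ?_⟩
      change (π₁ * g) • P₀ = P₂
      rw [mul_smul, hg]
      exact Sylow.smul_eq_iff_mem_normalizer.2 (le_normalizer hπ₁)
    · rintro ⟨⟨w, hw⟩, rfl⟩
      intro c hc
      change c ∈ w • P₀ at hc
      have hc' := (mem_smul_sylow_iff w c P₀).1 hc
      have h1 := hP₀inv _ hc'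
      have hwt : t * w = w * t := hcom t htQ w hw
      have hwt' : w⁻¹ * t⁻¹ = t⁻¹ * w⁻¹ := by
        rw [← mul_inv_rev, hwt, mul_inv_rev]
      calc t * c * t⁻¹ = w * (t * (w⁻¹ * c * w) * t⁻¹) * w⁻¹ := by
            calc t * c * t⁻¹ = t * (w * (w⁻¹ * c * w) * w⁻¹) * t⁻¹ := by group
              _ = (t * w) * (w⁻¹ * c * w) * (w⁻¹ * t⁻¹) := by group
              _ = (w * t) * (w⁻¹ * c * w) * (t⁻¹ * w⁻¹) := by rw [hwt, hwt']
              _ = _ := by group
        _ = c⁻¹ := by rw [h1]; group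
  have hdQ : Sig.ncard ∣ 2 ^ a := by
    rw [hOrb, ← MulAction.index_stabilizer, ← h.card]
    exact Subgroup.index_dvd_card _
  have hfin : p ∣ 2 ^ a := hpSig.trans hdQ
  have := C.hp.dvd_of_dvd_pow hfin
  exact C.hp2 ((Nat.prime_dvd_prime_iff_eq C.hp Nat.prime_two).1 this)

end Ctx

end Cfsg.Agent.Lib.MixedPrime
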