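import Cfsg.Agent.Lib.MixedPrime.Local
import Cfsg.Agent.S4018

/-!
# Mixed subgroups and primes: the non-TI branch reduces to `S4018`
-/

set_option autoImplicit false

namespace Cfsg.Agent.Lib.MixedPrime

open Cfsg Cfsg.Agent.Lib.Transfer.Basic Cfsg.Agent.Lib.Transfer.Frobenius
open Subgroup

universe u

variable {G : Type u} [Group G]

theorem split_aux {f r w : G} (hww : w * w = 1) (hrw : Commute r w)
    (hfr : r * f * r⁻¹ = f⁻¹) (hcomm : Commute f (w * f * w⁻¹)) :
    (Commute (f * (w * f * w⁻¹)) w ∧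
      r * (f * (w * f * w⁻¹)) * r⁻¹ = (f * (w * f * w⁻¹))⁻¹) ∧
    (Commute (f * (w * f * w⁻¹)⁻¹) (w * r) ∧
      r * (f * (w * f * w⁻¹)⁻¹) * r⁻¹ = (f * (w * f * w⁻¹)⁻¹)⁻¹) ∧
    (f * (w * f * w⁻¹)) * (f * (w * f * w⁻¹)⁻¹) = f * f := by
  set f' := w * f * w⁻¹ with hf'
  have hwi : w⁻¹ = w := inv_of_sq hww
  have hf'w : w * f' * w⁻¹ = f := by
    rw [hf', hwi]
    calc w * (w * f * w) * w = (w * w) * f * (w * w) := by group
      _ = f := by rw [hww]; group
  have hf'r : r * f' * r⁻¹ = f'⁻¹ := by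
    have h1 : r * w = w * r := hrw
    have h2 : w⁻¹ * r⁻¹ = r⁻¹ * w⁻¹ := by
      rw [← mul_inv_rev, h1, mul_inv_rev]
    calc r * f' * r⁻¹ = (r * w) * f * (w⁻¹ * r⁻¹) := by rw [hf']; group
      _ = w * (r * f * r⁻¹) * w⁻¹ := by rw [h1, h2]; group
      _ = f'⁻¹ := by rw [hfr, hf']; group
  have hc : f * f' = f' * f := hcomm
  have hc' : f⁻¹ * f' = f' * f⁻¹ := (hcomm.inv_left).eq
  have hc'' : f * f'⁻¹ = f'⁻¹ * f := (hcomm.inv_right).eq
  have hc3 : f⁻¹ * f'⁻¹ = f'⁻¹ * f⁻¹ := (hcomm.inv_left.inv_right).eq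
  refine ⟨⟨?_, ?_⟩, ⟨?_, ?_⟩, ?_⟩
  · -- `w` fixes `f * f'`
    have : w * (f * f') * w⁻¹ = f * f' := by
      calc w * (f * f') * w⁻¹ = (w * f * w⁻¹) * (w * f' * w⁻¹) := by group
        _ = f' * f := by rw [hf'w, ← hf']
        _ = f * f' := hc.symm
    change (f * f') * w = w * (f * f')
    calc (f * f') * w = (w * (f * f') * w⁻¹) * w := by rw [this]
      _ = w * (f * f') := by group
  · calc r * (f * f') * r⁻¹ = (r * f * r⁻¹) * (r * f' * r⁻¹) := by group
      _ = f⁻¹ * f'⁻¹ := by rw [hfr, hf'r]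
      _ = (f * f')⁻¹ := by rw [hc3]; exact (mul_inv_rev f f').symm
  · have h1 : r * (f * f'⁻¹) * r⁻¹ = (f * f'⁻¹)⁻¹ := by
      calc r * (f * f'⁻¹) * r⁻¹ = (r * f * r⁻¹) * (r * f' * r⁻¹)⁻¹ := by group
        _ = f⁻¹ * f' := by rw [hfr, hf'r, inv_inv]
        _ = (f * f'⁻¹)⁻¹ := by rw [hc']; group
    have h2 : w * (f * f'⁻¹)⁻¹ * w⁻¹ = f * f'⁻¹ := by
      calc w * (f * f'⁻¹)⁻¹ * w⁻¹ = (w * f' * w⁻¹) * (w * f * w⁻¹)⁻¹ := by group
        _ = f * f'⁻¹ := by rw [hf'w, ← hf']
    have h3 : (w * r) * (f * f'⁻¹) * (w * r)⁻¹ = f * f'⁻¹ := by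
      calc (w * r) * (f * f'⁻¹) * (w * r)⁻¹ = w * (r * (f * f'⁻¹) * r⁻¹) * w⁻¹ := by group
        _ = f * f'⁻¹ := by rw [h1, h2]
    change (f * f'⁻¹) * (w * r) = (w * r) * (f * f'⁻¹)
    calc (f * f'⁻¹) * (w * r) = ((w * r) * (f * f'⁻¹) * (w * r)⁻¹) * (w * r) := by rw [h3]
      _ = (w * r) * (f * f'⁻¹) := by group
  · calc r * (f * f'⁻¹) * r⁻¹ = (r * f * r⁻¹) * (r * f' * r⁻¹)⁻¹ := by group
      _ = f⁻¹ * f' := by rw [hfr, hf'r, inv_inv]
      _ = (f * f'⁻¹)⁻¹ := by rw [hc']; group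
  · calc (f * f') * (f * f'⁻¹) = f * (f' * f) * f'⁻¹ := by group
      _ = f * (f * f') * f'⁻¹ := by rw [hc]
      _ = f * f := by group

theorem comm_conj {x t s : G} (hxt : Commute x t) (hst : Commute s t) :
    Commute (s * x * s⁻¹) t := by
  have h1 : s * t = t * s := hst
  have h2 : x * t = t * x := hxt
  have h3 : s⁻¹ * t = t * s⁻¹ := hst.inv_left.eq
  change s * x * s⁻¹ * t = t * (s * x * s⁻¹)
  calc s * x * s⁻¹ * t = s * x * (s⁻¹ * t) * 1 := by group
    _ = s * (x * t) * s⁻¹ := by rw [h3]; group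
    _ = (s * t) * x * s⁻¹ := by rw [h2]; group
    _ = t * (s * x * s⁻¹) := by rw [h1]; group

theorem inv_conj {x s w : G} (hinv : s * x * s⁻¹ = x⁻¹) (hsw : Commute s w) :
    s * (w * x * w⁻¹) * s⁻¹ = (w * x * w⁻¹)⁻¹ := by
  have h1 : s * w = w * s := hsw
  have h2 : w⁻¹ * s⁻¹ = s⁻¹ * w⁻¹ := by rw [← mul_inv_rev, h1, mul_inv_rev]
  calc s * (w * x * w⁻¹) * s⁻¹ = (s * w) * x * (w⁻¹ * s⁻¹) := by group
    _ = w * (s * x * s⁻¹) * w⁻¹ := by rw [h1, h2]; group
    _ = (w * x * w⁻¹)⁻¹ := by rw [hinv]; group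

namespace Ctx

variable [Finite G] {p a : ℕ}

omit [Finite G] in
theorem pow_conj_mem {Q : Subgroup G} {y : G} (h : Good p a Q y) (n : ℕ) {z : G} (hz : z ∈ Q) :
    y ^ n * z * (y ^ n)⁻¹ ∈ Q := by
  induction n with
  | zero => simpa using hz
  | succ n ih =>
    have hy := (mem_nor.1 h.norm _).1 ih
    have e1 : y ^ (n + 1) * z * (y ^ (n + 1))⁻¹ = y * (y ^ n * z * (y ^ n)⁻¹) * y⁻¹ := by
      rw [pow_succ']
      group
    rw [e1]
    exact hy

/-- A `p`-element normalizing a Sylow subgroup lies in it. -/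
theorem mem_of_smul_eq (C : Ctx G p a) {g : G} (hg : PE p g) {P : Sylow p G} (hP : g • P = P) :
    g ∈ P := by
  haveI := C.fact_p
  have h1 : g ∈ normalizer ((P : Subgroup G) : Set G) := Sylow.smul_eq_iff_mem_normalizer.1 hP
  have h2 := (isPGroup_zpowers_of_PE hg).inf_normalizer_sylow P
  have h3 : g ∈ zpowers g ⊓ normalizer (P : Set G) := ⟨mem_zpowers g, h1⟩
  rw [h2] at h3
  exact h3.2

/-- Powers of `y` moving a point are transitive. -/
theorem trans_of_move (C : Ctx G p a) {Q : Subgroup G} {y : G} (h : Good p a Q y) {g : G}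
    (hgN : ∀ z ∈ Q, g * z * g⁻¹ ∈ Q) (hg : PE p g) {w : G} (hw : w ∈ Q) (hw1 : w ≠ 1)
    (hmove : ¬ Commute g w) :
    ∀ x₁ ∈ Q, x₁ ≠ 1 → ∀ x₂ ∈ Q, x₂ ≠ 1 → ∃ n : ℕ, g ^ n * x₁ * (g ^ n)⁻¹ = x₂ := by
  have hS : ∀ x ∈ (Q : Set G) \ {1}, g * x * g⁻¹ ∈ (Q : Set G) \ {1} := by
    rintro x ⟨hx, hx1⟩
    refine ⟨hgN x hx, ?_⟩
    intro h'
    apply hx1
    have h'' : g * x * g⁻¹ = 1 := h'
    have h6 : x = g⁻¹ * (g * x * g⁻¹) * g := by group
    rw [h6, h'']
    simp
  have hcard : ((Q : Set G) \ {1}).ncard = p := by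
    have h5 : ((Q : Set G) \ {1}).ncard = Nat.card Q - 1 := by
      rw [Set.ncard_sdiff_singleton_of_mem (one_mem Q)]
      rfl
    rw [h5, h.card, C.pow_eq]
    simp
  intro x₁ h₁ h₁' x₂ h₂ h₂'
  exact conj_transitive C.hp hg hS hcard ⟨hw, hw1⟩ hmove x₁ ⟨h₁, h₁'⟩ x₂ ⟨h₂, h₂'⟩

/-- The first part of the second branch. -/
theorem branch_two_aux (C : Ctx G p a) {Q : Subgroup G} {y : G} (h : Good p a Q y) {t s e : G}
    (ht : t ∈ Q) (ht1 : t ≠ 1) (hs : s ∈ Q) (hs1 : s ≠ 1) (hst : s ≠ t) (he : PE p e) (he1 : e ≠ 1)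
    (het : Commute e t) (hes : s * e * s⁻¹ = e⁻¹) {P : Sylow p G} (heP : e ∈ P) :
    (∀ w ∈ Q, ∀ c ∈ P, w * c * w⁻¹ ∈ P) ∧
    (∀ v, PE p v → Commute v t → v ∈ P) ∧
    (∀ w ∈ Q, w ≠ 1 → ∀ c ∈ P, c ≠ 1 → Commute c w → ∀ r ∈ Q, r * c * r⁻¹ = c⁻¹ → w = t) ∧
    (∀ f ∈ P, f ≠ 1 → ∀ r ∈ Q, r * f * r⁻¹ = f⁻¹ → ∀ w ∈ Q, w ≠ 1 → w ≠ r → w = t ∨ w * r = t) := by
  haveI := C.fact_p
  have hcom := comm_of_sq h.sq
  have htt := h.sq t ht
  have hss := h.sq s hs
  have H1 : ∀ v, PE p v → Commute v e → v ∈ P := fun v hv hve =>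
    C.small_sylow h he he1 hss hes htt ht1 het v hv hve P heP
  have H2 : ∀ v, PE p v → Commute v t → v ∈ P := fun v hv hvt =>
    H1 v hv (C.pe_comm_of_cen htt ht1 hv he hvt het)
  have H3 : ∀ w ∈ Q, ∀ c ∈ P, w * c * w⁻¹ ∈ P := by
    intro w hw c hc
    have hwt : Commute w t := hcom w hw t ht
    have hsw : Commute s w := hcom s hs w hw
    set e' := w * e * w⁻¹ with he'
    have he'pe : PE p e' := he.conj w
    have he'1 : e' ≠ 1 := by
      intro h'
      apply he1
      have h6 : e = w⁻¹ * (w * e * w⁻¹) * w := by group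
      rw [h6, ← he', h']
      simp
    have he't : Commute e' t := comm_conj het hwt
    have he's : s * e' * s⁻¹ = e'⁻¹ := inv_conj hes hsw
    have he'P : e' ∈ P := H2 e' he'pe he't
    have he'P2 : e' ∈ w • P := by
      rw [mem_smul_sylow_iff]
      have : w⁻¹ * e' * w = e := by rw [he']; group
      rw [this]
      exact heP
    have hEq : w • P = P := C.small_unique h he'pe he'1 hss he's htt ht1 he't he'P2 he'P
    have hc2 : w * c * w⁻¹ ∈ w • P := by
      rw [mem_smul_sylow_iff]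
      have : w⁻¹ * (w * c * w⁻¹) * w = c := by group
      rw [this]
      exact hc
    rw [hEq] at hc2
    exact hc2
  have H5 : ∀ w ∈ Q, w ≠ 1 → ∀ c ∈ P, c ≠ 1 → Commute c w → ∀ r ∈ Q, r * c * r⁻¹ = c⁻¹ → w = t := by
    intro w hw hw1 c hc hc1 hcw r hr hrc
    by_contra hwt
    obtain ⟨n, hn⟩ := h.trans w hw hw1 t ht ht1
    set g := y ^ n with hg
    have hgpe : PE p g := h.pe.pow n
    set c₂ := g * c * g⁻¹ with hc₂
    set r₂ := g * r * g⁻¹ with hr₂
    have hcpe : PE p c := PE.of_mem P.isPGroup' hc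
    have hc₂pe : PE p c₂ := hcpe.conj g
    have hc₂1 : c₂ ≠ 1 := by
      intro h'
      apply hc1
      have h6 : c = g⁻¹ * (g * c * g⁻¹) * g := by group
      rw [h6, ← hc₂, h']
      simp
    have hc₂t : Commute c₂ t := by
      rw [← hn]
      have h7 : c * w = w * c := hcw
      change g * c * g⁻¹ * (g * w * g⁻¹) = g * w * g⁻¹ * (g * c * g⁻¹)
      calc g * c * g⁻¹ * (g * w * g⁻¹) = g * (c * w) * g⁻¹ := by group
        _ = g * (w * c) * g⁻¹ := by rw [h7]
        _ = _ := by group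
    have hr₂Q : r₂ ∈ Q := pow_conj_mem h n hr
    have hr₂r : r₂ * c₂ * r₂⁻¹ = c₂⁻¹ := by
      calc r₂ * c₂ * r₂⁻¹ = g * (r * c * r⁻¹) * g⁻¹ := by rw [hr₂, hc₂]; group
        _ = c₂⁻¹ := by rw [hrc, hc₂]; group
    have hc₂e : Commute c₂ e := C.pe_comm_of_cen htt ht1 hc₂pe he hc₂t het
    have hc₂P : c₂ ∈ P := H1 c₂ hc₂pe hc₂e
    have hc₂P2 : c₂ ∈ g • P := by
      rw [mem_smul_sylow_iff]
      have : g⁻¹ * c₂ * g = c := by rw [hc₂]; group
      rw [this]
      exact hc
    have hEq : g • P = P := C.small_unique h hc₂pe hc₂1 (h.sq r₂ hr₂Q) hr₂r htt ht1 hc₂t hc₂P2 hc₂P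
    have hgP : g ∈ P := C.mem_of_smul_eq hgpe hEq
    have hge : Commute e g := C.sylow_comm P heP hgP
    -- `g` moves `w`
    have hmove : ¬ Commute g w := by
      intro hgw
      apply hwt
      have : g * w = w * g := hgw
      rw [← hn, this]
      group
    have htr := C.trans_of_move h (fun z hz => pow_conj_mem h n hz) hgpe hw hw1 hmove
    obtain ⟨w', hw', hw'1, hw's⟩ := C.exists_other h s
    have := lemma_Z h.sq htr hw' hw'1 hw's hs hs1 hge hes
    exact he1 (C.eq_one he this)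
  refine ⟨H3, H2, H5, ?_⟩
  intro f hf hf1 r hr hfr w hw hw1 hwr
  have hwQ2 := h.sq w hw
  have hrw : Commute r w := hcom r hr w hw
  have hf'P : w * f * w⁻¹ ∈ P := H3 w hw f hf
  have hcomm : Commute f (w * f * w⁻¹) := C.sylow_comm P hf hf'P
  obtain ⟨⟨h1, h2⟩, ⟨h3, h4⟩, h5⟩ := split_aux hwQ2 hrw hfr hcomm
  have hfpe : PE p f := PE.of_mem P.isPGroup' hf
  have hff : f * f ≠ 1 := C.mul_self_ne_one hfpe hf1
  by_cases hp : f * (w * f * w⁻¹) = 1
  · right
    have hm : f * (w * f * w⁻¹)⁻¹ ≠ 1 := by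
      intro hm
      rw [hp, hm, mul_one] at h5
      exact hff h5.symm
    have hwr' : w * r ≠ 1 := by
      intro h'
      apply hwr
      have h6 : w * r = r * r := by rw [h', h.sq r hr]
      exact mul_right_cancel h6
    exact H5 (w * r) (Q.mul_mem hw hr) hwr' _ (P.mul_mem hf (P.inv_mem hf'P)) hm h3 r hr h4
  · left
    exact H5 w hw hw1 _ (P.mul_mem hf hf'P) hp h1 r hr h2

omit [Finite G] in
theorem mem_zpowers_of_sq {t τ : G} (htt : t * t = 1) (ht1 : t ≠ 1) (h : τ ∈ zpowers t) :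
    τ = 1 ∨ τ = t := by
  have hord : orderOf t = 2 := orderOf_eq_prime (by rw [pow_two, htt]) ht1
  obtain ⟨i, rfl⟩ := h
  change t ^ i = 1 ∨ t ^ i = t
  rcases Int.emod_two_eq_zero_or_one i with h2 | h2
  · left
    rw [← zpow_mod_orderOf, hord]
    norm_cast
    rw [h2]
    simp
  · right
    rw [← zpow_mod_orderOf, hord]
    norm_cast
    rw [h2]
    simp

omit [Finite G] in
theorem two_dvd_of_mem [Finite G] {L : Subgroup G} {t : G} (htL : t ∈ L) (htt : t * t = 1) (ht1 : t ≠ 1) :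
    2 ∣ Nat.card L := by
  have hord : orderOf t = 2 := orderOf_eq_prime (by rw [pow_two, htt]) ht1
  have : Nat.card (zpowers t) ∣ Nat.card L :=
    Subgroup.card_dvd_of_le (by rw [zpowers_le]; exact htL)
  rwa [Nat.card_zpowers, hord] at this

/-- The second branch: contradiction with `S4018`. -/
theorem branch_two (C : Ctx G p a) {Q : Subgroup G} {y : G} (h : Good p a Q y) {t s d : G}
    (ht : t ∈ Q) (ht1 : t ≠ 1) (hs : s ∈ Q) (hd : PE p d) (hdt : Commute d t)
    (hds : ¬ Commute d s) : False := by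
  haveI := C.fact_p
  have hcom := comm_of_sq h.sq
  have htt := h.sq t ht
  have hss := h.sq s hs
  have hs1 : s ≠ 1 := by
    rintro rfl
    exact hds (Commute.one_right d)
  have hst : s ≠ t := by
    rintro rfl
    exact hds hdt
  set e := d⁻¹ * (s * d * s⁻¹) with he
  have hdc : Commute (s * d * s⁻¹) t := comm_conj hdt (hcom s hs t ht)
  have hpe1 : PE p (s * d * s⁻¹) := hd.conj s
  have hcdd : Commute d (s * d * s⁻¹) := C.pe_comm_of_cen htt ht1 hd hpe1 hdt hdc
  have hepe : PE p e := hd.inv.mul hpe1 hcdd.inv_left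
  have he1 : e ≠ 1 := by
    intro h'
    apply hds
    have h6 : s * d * s⁻¹ = d * (d⁻¹ * (s * d * s⁻¹)) := by group
    rw [← he, h', mul_one] at h6
    change d * s = s * d
    calc d * s = (s * d * s⁻¹) * s := by rw [h6]
      _ = s * d := by group
  have het : Commute e t := hdt.inv_left.mul_left hdc
  have hes : s * e * s⁻¹ = e⁻¹ := conj_commutator_inv hss
  obtain ⟨P, heP⟩ := C.exists_sylow_mem hepe
  obtain ⟨H3, H2, H5, H6⟩ := C.branch_two_aux h ht ht1 hs hs1 hst hepe he1 het hes heP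
  -- classification of `Q`
  have hQ4 : ∀ w ∈ Q, w = 1 ∨ w = s ∨ w = t ∨ w = t * s := by
    intro w hw
    by_cases w1 : w = 1
    · exact Or.inl w1
    by_cases ws : w = s
    · exact Or.inr (Or.inl ws)
    rcases H6 e heP he1 s hs hes w hw w1 ws with h' | h'
    · exact Or.inr (Or.inr (Or.inl h'))
    · refine Or.inr (Or.inr (Or.inr ?_))
      rw [← h', mul_assoc, hss, mul_one]
  have hcard : Nat.card Q ≤ 4 := by
    have hsub : (Q : Set G) ⊆ {1, s, t, t * s} := by
      intro w hw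
      rcases hQ4 w hw with h' | h' | h' | h' <;> simp [h']
    have h3 : (Q : Set G).ncard ≤ ({1, s, t, t * s} : Set G).ncard :=
      Set.ncard_le_ncard hsub (Set.toFinite _)
    have h4 : ({1, s, t, t * s} : Set G).ncard ≤ 4 := by
      refine (Set.ncard_insert_le _ _).trans ?_
      refine Nat.succ_le_succ ((Set.ncard_insert_le _ _).trans ?_)
      refine Nat.succ_le_succ ((Set.ncard_insert_le _ _).trans ?_)
      simp
    exact h3.trans h4
  have ha2 : a = 2 := by
    have h2 := C.two_le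
    rw [h.card] at hcard
    by_contra hne
    have h3 : 2 ^ 3 ≤ 2 ^ a := Nat.pow_le_pow_right (by norm_num) (by omega)
    omega
  have hp3 : p = 3 := by
    have := C.hpa
    rw [ha2] at this
    simpa using this
  -- `t` centralizes `P`
  have H7 : ∀ c ∈ P, Commute c t := by
    intro c hc
    by_contra hct
    set f := c⁻¹ * (t * c * t⁻¹) with hf
    have hfP : f ∈ P := P.mul_mem (P.inv_mem hc) (H3 t ht c hc)
    have hf1 : f ≠ 1 := by
      intro h'
      apply hct
      have h6 : t * c * t⁻¹ = c * (c⁻¹ * (t * c * t⁻¹)) := by group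
      rw [← hf, h', mul_one] at h6
      change c * t = t * c
      calc c * t = (t * c * t⁻¹) * t := by rw [h6]
        _ = t * c := by group
    have hft : t * f * t⁻¹ = f⁻¹ := conj_commutator_inv htt
    rcases H6 f hfP hf1 t ht hft s hs hs1 hst with h' | h'
    · exact hst h'
    · apply hs1
      exact mul_right_cancel (h'.trans (one_mul t).symm)
  -- `C_P(Q) = 1`
  have H9 : ∀ c ∈ P, Commute c s → c = 1 := by
    intro c hc hcs
    by_contra hc1
    have hcpe : PE p c := PE.of_mem P.isPGroup' hc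
    have hcQ : ∀ w ∈ Q, Commute c w := by
      intro w hw
      rcases hQ4 w hw with h' | h' | h' | h'
      · rw [h']
        exact Commute.one_right c
      · rw [h']
        exact hcs
      · rw [h']
        exact H7 c hc
      · rw [h']
        exact (H7 c hc).mul_right hcs
    have hcy : Commute y c := C.comm_y h ht ht1 hcpe hcQ
    have hne : cen c ≠ ⊤ := C.centralizer_ne_top h hc1
    have hQL : Q ≤ cen c := fun w hw => mem_cen.2 (hcQ w hw).symm
    have heL : e ∈ cen c := mem_cen.2 (C.sylow_comm P heP hc)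
    exact he1 (C.no_inverted_in h hne hQL (mem_cen.2 hcy) heL hepe hs hs1 hes)
  -- `s` inverts `P`
  have H10 : ∀ c ∈ P, s * c * s⁻¹ = c⁻¹ := by
    intro c hc
    have hc' : s * c * s⁻¹ ∈ P := H3 s hs c hc
    set f := c * (s * c * s⁻¹) with hf
    have hfP : f ∈ P := P.mul_mem hc hc'
    have hsi : s⁻¹ = s := inv_of_sq hss
    have h1 : s * f * s⁻¹ = f := by
      have h2 : s * (s * c * s⁻¹) * s⁻¹ = c := by
        rw [hsi]
        calc s * (s * c * s) * s = (s * s) * c * (s * s) := by group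
          _ = c := by rw [hss]; group
      calc s * f * s⁻¹ = (s * c * s⁻¹) * (s * (s * c * s⁻¹) * s⁻¹) := by rw [hf]; group
        _ = (s * c * s⁻¹) * c := by rw [h2]
        _ = f := (C.sylow_comm P hc' hc).eq
    have hfs : Commute f s := by
      change f * s = s * f
      calc f * s = (s * f * s⁻¹) * s := by rw [h1]
        _ = s * f := by group
    have hf1 : f = 1 := H9 f hfP hfs
    have : c⁻¹ = s * c * s⁻¹ := by
      rw [hf] at hf1
      exact (eq_inv_of_mul_eq_one_right hf1).symm ▸ rfl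
    exact this.symm
  -- uniqueness
  have H11 : ∀ c ∈ P, c ≠ 1 → ∀ P₂ : Sylow p G, c ∈ P₂ → P₂ = P := by
    intro c hc hc1 P₂ hc2
    exact C.small_unique h (PE.of_mem P.isPGroup' hc) hc1 hss (H10 c hc) htt ht1 (H7 c hc) hc2 hc
  have hNmem : ∀ g, (∀ c ∈ P, g * c * g⁻¹ ∈ P) → g ∈ normalizer ((P : Subgroup G) : Set G) :=
    fun g hg => mem_nor_of_forall hg
  -- the centralizer of `t` normalizes `P`
  have H13 : ∀ g, Commute g t → g ∈ normalizer ((P : Subgroup G) : Set G) := by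
    intro g hgt
    obtain ⟨K, h1, h2, -, -, h5⟩ := C.cent_struct htt ht1
    have hQt : Q ≤ cen t := fun w hw => mem_cen.2 (hcom w hw t ht)
    obtain ⟨k, hk, w, hw, rfl⟩ := h5 Q hQt h.card g hgt
    have hkP : k ∈ P := H2 k (PE.of_mem h1 hk) (mem_cen.1 (h2 hk))
    apply hNmem
    intro c hc
    have h6 : (k * w) * c * (k * w)⁻¹ = k * (w * c * w⁻¹) * k⁻¹ := by group
    rw [h6]
    exact P.mul_mem (P.mul_mem hkP (H3 w hw c hc)) (P.inv_mem hkP)
  subst hp3
  subst ha2
  have hS := C.isSimple h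
  have hPc : Nat.card (P : Subgroup G) = 3 ^ (Nat.card G).factorization 3 :=
    Sylow.card_eq_multiplicity P
  have heven : ∀ H : Subgroup G, H ≠ ⊤ → 2 ∣ Nat.card H → Nat.card H ∣ 4 * Nat.card P := by
    intro H hH h2H
    have hn : Nat.card H ≠ 0 := Nat.card_pos.ne'
    have heq := eq_pow_mul_pow hn C.hp C.hp2 (C.hF1 H hH h2H)
    have hdvd : Nat.card H ∣ Nat.card G := Subgroup.card_subgroup_dvd_card H
    have hv2 : (Nat.card H).factorization 2 ≤ 2 := by
      have := (Nat.factorization_le_iff_dvd hn Nat.card_pos.ne').2 hdvd 2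
      rwa [C.hcard] at this
    have hv3 : (Nat.card H).factorization 3 ≤ (Nat.card G).factorization 3 :=
      (Nat.factorization_le_iff_dvd hn Nat.card_pos.ne').2 hdvd 3
    rw [heq]
    have hcP : Nat.card P = 3 ^ (Nat.card G).factorization 3 := hPc
    rw [hcP, show (4 : ℕ) = 2 ^ 2 by norm_num]
    exact mul_dvd_mul (pow_dvd_pow 2 hv2) (pow_dvd_pow 3 hv3)
  have hPbot : (P : Subgroup G) ≠ ⊥ := P.ne_bot_of_dvd_card C.hpG
  have htnotP : t ∉ P := fun h' => ht1 (C.eq_one (PE.of_mem P.isPGroup' h') htt)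
  have hPtop : (P : Subgroup G) ≠ ⊤ := by
    intro h'
    apply htnotP
    change t ∈ (P : Subgroup G)
    rw [h']
    exact mem_top t
  have hNne : normalizer ((P : Subgroup G) : Set G) ≠ ⊤ := by
    intro h'
    have hnorm : (P : Subgroup G).Normal := Subgroup.normalizer_eq_top_iff.1 h'
    rcases hS.eq_bot_or_eq_top_of_normal _ hnorm with h'' | h''
    · exact hPbot h''
    · exact hPtop h''
  have hQN : Q ≤ normalizer ((P : Subgroup G) : Set G) := fun w hw => hNmem w (H3 w hw)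
  have hPN : (P : Subgroup G) ≤ normalizer ((P : Subgroup G) : Set G) := le_normalizer
  have h4N : 4 ∣ Nat.card (normalizer ((P : Subgroup G) : Set G)) := by
    have := Subgroup.card_dvd_of_le hQN
    rwa [h.card] at this
  have hPN' : Nat.card P ∣ Nat.card (normalizer ((P : Subgroup G) : Set G)) :=
    Subgroup.card_dvd_of_le hPN
  have hco4 : Nat.Coprime 4 (Nat.card P) := by
    have hcP : Nat.card P = 3 ^ (Nat.card G).factorization 3 := hPc
    rw [hcP]
    exact Nat.Coprime.pow_right _ (by norm_num)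
  have hN : Nat.card (normalizer ((P : Subgroup G) : Set G)) = 4 * Nat.card P := by
    apply Nat.dvd_antisymm
    · exact heven _ hNne (dvd_trans (by norm_num) h4N)
    · exact Nat.Coprime.mul_dvd_of_dvd_of_dvd hco4 h4N hPN'
  -- the centralizer of `P`
  set D : Subgroup G := centralizer (P : Set G) with hD
  have hmemD : ∀ x, (∀ c ∈ P, Commute x c) → x ∈ D := by
    intro x hx
    refine Subgroup.mem_centralizer_iff.2 ?_
    intro c hc
    exact (hx c hc).symm.eq
  have hDmem : ∀ x ∈ D, ∀ c ∈ P, Commute x c := by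
    intro x hx c hc
    exact (Subgroup.mem_centralizer_iff.1 hx c hc).symm
  have hsD : s ∉ D := by
    intro h'
    have h1 := hDmem s h' e heP
    have h2 : s * e * s⁻¹ = e := by
      have : s * e = e * s := h1
      rw [this]
      group
    rw [h2] at hes
    have : e * e = 1 := by
      calc e * e = e * e⁻¹ := by rw [← hes]
        _ = 1 := by group
    exact he1 (C.eq_one hepe this)
  have htD : t ∈ D := hmemD t (fun c hc => (H7 c hc).symm)
  have hPD : (P : Subgroup G) ≤ D := fun x hx => hmemD x (fun c hc => C.sylow_comm P hx hc)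
  have hDN : D ≤ normalizer ((P : Subgroup G) : Set G) := by
    intro x hx
    apply hNmem
    intro c hc
    have : x * c = c * x := hDmem x hx c hc
    rw [this]
    simpa using hc
  have hDne : D ≠ ⊤ := by
    intro h'
    apply hsD
    rw [h']
    exact mem_top s
  have h2D : 2 ∣ Nat.card D := two_dvd_of_mem htD htt ht1
  have hD1 : Nat.card D ∣ 4 * Nat.card P := heven D hDne h2D
  have hD2 : 2 * Nat.card P ∣ Nat.card D := by
    have hco2 : Nat.Coprime 2 (Nat.card P) := Nat.Coprime.coprime_dvd_left (by norm_num) hco4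
    exact Nat.Coprime.mul_dvd_of_dvd_of_dvd hco2 h2D (Subgroup.card_dvd_of_le hPD)
  have hPpos : 0 < Nat.card P := Nat.card_pos
  have hC : Nat.card D = 2 * Nat.card P := by
    obtain ⟨m, hm⟩ := hD2
    have hm2 : m ∣ 2 := by
      rw [hm, show 4 * Nat.card P = 2 * Nat.card P * 2 by ring] at hD1
      exact Nat.dvd_of_mul_dvd_mul_left (by positivity) hD1
    rcases (Nat.dvd_prime Nat.prime_two).1 hm2 with h' | h'
    · rw [hm, h', mul_one]
    · exfalso
      have hc4 : Nat.card D = Nat.card (normalizer ((P : Subgroup G) : Set G)) := by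
        rw [hN, hm, h']
        ring
      have : D = normalizer ((P : Subgroup G) : Set G) := Subgroup.eq_of_le_of_card_ge hDN hc4.ge
      apply hsD
      rw [this]
      exact hQN hs
  -- the TI property
  have hTI : Cfsg.IsTISubset (D : Set G) := by
    have hNN : ∀ g ∈ normalizer ((P : Subgroup G) : Set G), g ∈ normalizer ((D : Subgroup G) : Set G) := by
      intro g hg
      apply mem_nor_of_forall
      intro x hx
      apply hmemD
      intro c hc
      have hc' : g⁻¹ * c * g ∈ P := by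
        have := (mem_nor.1 hg (g⁻¹ * c * g)).2
        apply this
        have h9 : g * (g⁻¹ * c * g) * g⁻¹ = c := by group
        rw [h9]
        exact hc
      have h1 : x * (g⁻¹ * c * g) = (g⁻¹ * c * g) * x := hDmem x hx _ hc'
      change (g * x * g⁻¹) * c = c * (g * x * g⁻¹)
      calc (g * x * g⁻¹) * c = g * (x * (g⁻¹ * c * g)) * g⁻¹ := by group
        _ = g * ((g⁻¹ * c * g) * x) * g⁻¹ := by rw [h1]
        _ = c * (g * x * g⁻¹) := by group
    have hordt : orderOf t = 2 := orderOf_eq_prime (by rw [pow_two, htt]) ht1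
    have hprod : Nat.card (P : Subgroup G) * Nat.card (zpowers t) = Nat.card D := by
      rw [Nat.card_zpowers, hordt, hC]
      change Nat.card P * 2 = 2 * Nat.card P
      ring
    have hcop : (Nat.card (P : Subgroup G)).Coprime (Nat.card (zpowers t)) := by
      rw [Nat.card_zpowers, hordt, hPc]
      exact Nat.Coprime.pow_left _ (by norm_num)
    have hfac := exists_mul_of_card hPD (by rw [zpowers_le]; exact htD) hprod hcop
    have hnotPE : ∀ c ∈ P, ¬ PE 3 (c * t) := by
      intro c hc hpe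
      have hcpe : PE 3 c := PE.of_mem P.isPGroup' hc
      have hct : Commute c t := H7 c hc
      have : PE 3 t := by
        have h1 : t = c⁻¹ * (c * t) := by group
        rw [h1]
        exact hcpe.inv.mul hpe ((Commute.refl c).mul_right hct).inv_left
      exact ht1 (C.eq_one this htt)
    intro g hg x hx hx'
    by_contra hx1
    obtain ⟨c, hc, τ, hτ, hxe⟩ := hfac x hx
    obtain ⟨c₁, hc₁, τ₁, hτ₁, hxe'⟩ := hfac _ hx'
    rcases mem_zpowers_of_sq htt ht1 hτ with h1 | h1 <;>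
      rcases mem_zpowers_of_sq htt ht1 hτ₁ with h2 | h2
    · -- both in `P`
      rw [h1, mul_one] at hxe
      rw [h2, mul_one] at hxe'
      have hc1' : c₁ ≠ 1 := by
        intro h'
        apply hx1
        rw [h'] at hxe'
        have h6 : x = g⁻¹ * (g * x * g⁻¹) * g := by group
        rw [h6, ← hxe']
        simp
      have hmem : c₁ ∈ g • P := by
        rw [mem_smul_sylow_iff, hxe', ← hxe]
        have : g⁻¹ * (g * c * g⁻¹) * g = c := by group
        rw [this]
        exact hc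
      have hEq : g • P = P := H11 c₁ hc₁ hc1' _ hmem
      exact hg (hNN g (Sylow.smul_eq_iff_mem_normalizer.1 hEq))
    · -- `x ∈ P` but its conjugate is not a `3`-element
      rw [h1, mul_one] at hxe
      rw [h2] at hxe'
      have hpe : PE 3 (c₁ * t) := by
        rw [hxe', ← hxe]
        exact (PE.of_mem P.isPGroup' hc).conj g
      exact hnotPE c₁ hc₁ hpe
    · rw [h1] at hxe
      rw [h2, mul_one] at hxe'
      have hpe : PE 3 (c * t) := by
        rw [hxe]
        apply PE.of_conj (x := g)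
        rw [← hxe']
        exact PE.of_mem P.isPGroup' hc₁
      exact hnotPE c hc hpe
    · -- both even
      rw [h1] at hxe
      rw [h2] at hxe'
      set k := Nat.card (P : Subgroup G) with hk
      have hkodd : Odd k := by
        rw [hPc]
        exact Odd.pow (by decide)
      obtain ⟨m, hm⟩ := hkodd
      have hpt : ∀ c ∈ P, (c * t) ^ k = t := by
        intro c hc
        rw [(H7 c hc).mul_pow]
        have h1 : c ^ k = 1 := by
          have : (⟨c, hc⟩ : (P : Subgroup G)) ^ k = 1 := pow_card_eq_one'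
          exact congrArg Subtype.val this
        rw [h1, one_mul, hm, pow_succ, pow_mul, pow_two, htt, one_pow, one_mul]
      have h1 := hpt c hc
      have h2 := hpt c₁ hc₁
      rw [hxe'] at h2
      rw [hxe] at h1
      rw [conj_pow, h1] at h2
      have hgt : Commute g t := by
        change g * t = t * g
        calc g * t = (g * t * g⁻¹) * g := by group
          _ = t * g := by rw [h2]
      exact hg (hNN g (H13 g hgt))
  exact Cfsg.Agent.S4018.result P (C.hab P) hN hC hTI heven hS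

end Ctx

end Cfsg.Agent.Lib.MixedPrime
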