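import Cfsg.Agent.Lib.MixedPrime.Basic

/-!
# Mixed subgroups and primes: the context of a minimal counterexample
-/

set_option autoImplicit false

namespace Cfsg.Agent.Lib.MixedPrime

open Cfsg Cfsg.Agent.Lib.Transfer.Basic Cfsg.Agent.Lib.Transfer.Frobenius
open Subgroup

universe u

variable {G : Type u} [Group G]

theorem mem_nor {g : G} {D : Subgroup G} :
    g ∈ normalizer (D : Set G) ↔ ∀ x, x ∈ D ↔ g * x * g⁻¹ ∈ D :=
  Subgroup.mem_normalizer_iff

/-- Membership in the normalizer, for finite groups one direction is enough. -/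
theorem mem_nor_of_forall [Finite G] {g : G} {D : Subgroup G} (h : ∀ x ∈ D, g * x * g⁻¹ ∈ D) :
    g ∈ normalizer (D : Set G) := by
  have hle : D.map (MulAut.conj g).toMonoidHom ≤ D := by
    rintro _ ⟨x, hx, rfl⟩
    exact h x hx
  have hcard : Nat.card (D.map (MulAut.conj g).toMonoidHom) = Nat.card D :=
    Nat.card_congr (D.equivMapOfInjective _ (MulAut.conj g).injective).toEquiv.symm
  have heq : D.map (MulAut.conj g).toMonoidHom = D := by
    apply Subgroup.eq_of_le_of_card_ge hle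
    exact hcard.ge
  rw [mem_nor]
  intro x
  refine ⟨h x, ?_⟩
  intro hx
  rw [← heq] at hx
  obtain ⟨z, hz, hzx⟩ := hx
  have : z = x := by
    have hzx' : g * z * g⁻¹ = g * x * g⁻¹ := hzx
    have := mul_right_cancel hzx'
    exact mul_left_cancel this
  rwa [← this]

/-- Subgroups with coprime orders whose product is the order of `Λ` factor `Λ`. -/
theorem exists_mul_of_card [Finite G] {A B L : Subgroup G} (hA : A ≤ L) (hB : B ≤ L)
    (hc : Nat.card A * Nat.card B = Nat.card L) (hco : (Nat.card A).Coprime (Nat.card B)) :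
    ∀ g ∈ L, ∃ a ∈ A, ∃ b ∈ B, a * b = g := by
  have e1 : Nat.card (A.subgroupOf L) = Nat.card A :=
    Nat.card_congr (subgroupOfEquivOfLe hA).toEquiv
  have e2 : Nat.card (B.subgroupOf L) = Nat.card B :=
    Nat.card_congr (subgroupOfEquivOfLe hB).toEquiv
  have hcompl : (A.subgroupOf L).IsComplement' (B.subgroupOf L) := by
    apply Subgroup.isComplement'_of_coprime
    · rw [e1, e2, hc]
    · rw [e1, e2]
      exact hco
  intro g hg
  obtain ⟨⟨a, b⟩, hab⟩ := hcompl.2 (⟨g, hg⟩ : L)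
  refine ⟨a.1.1, Subgroup.mem_subgroupOf.1 a.2, b.1.1, Subgroup.mem_subgroupOf.1 b.2, ?_⟩
  exact congrArg Subtype.val hab

/-- If all primes of `n` are `2` or `p` then `n = 2 ^ _ * p ^ _`. -/
theorem eq_pow_mul_pow {n p : ℕ} (hn : n ≠ 0) (hp : p.Prime) (hp2 : p ≠ 2)
    (h : ∀ r, r.Prime → r ∣ n → r = p ∨ r = 2) :
    n = 2 ^ n.factorization 2 * p ^ n.factorization p := by
  have h1 := Nat.ordProj_mul_ordCompl_eq_self n 2
  have hm : n / 2 ^ n.factorization 2 ≠ 0 :=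
    (Nat.ordCompl_pos 2 hn).ne'
  have h2 : ∀ {r : ℕ}, r.Prime → r ∣ n / 2 ^ n.factorization 2 → r = p := by
    intro r hr hrm
    have hrn : r ∣ n := hrm.trans (Nat.ordCompl_dvd n 2)
    rcases h r hr hrn with h | h
    · exact h
    · subst h
      exact absurd hrm (Nat.not_dvd_ordCompl Nat.prime_two hn)
  have h3 : n / 2 ^ n.factorization 2 = p ^ (n / 2 ^ n.factorization 2).factorization p := by
    by_cases hm1 : n / 2 ^ n.factorization 2 = 1
    · rw [hm1]
      simp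
    obtain ⟨e, he⟩ : ∃ e, n / 2 ^ n.factorization 2 = p ^ e :=
      ⟨_, Nat.eq_prime_pow_of_unique_prime_dvd hm h2⟩
    rw [he, hp.factorization_pow]
    simp
  have h4 : (n / 2 ^ n.factorization 2).factorization p = n.factorization p := by
    rw [Nat.factorization_ordCompl, Finsupp.erase_ne hp2]
  rw [h4] at h3
  conv_lhs => rw [← h1, h3]

/-- Lemma: transitive action on `Q#` and a commuting element inverted by a nonidentity element. -/
theorem lemma_Z {Q : Subgroup G} {π₀ u t : G} (hsq : ∀ x ∈ Q, x * x = 1)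
    (htrans : ∀ x₁ ∈ Q, x₁ ≠ 1 → ∀ x₂ ∈ Q, x₂ ≠ 1 → ∃ n : ℕ, π₀ ^ n * x₁ * (π₀ ^ n)⁻¹ = x₂)
    {w : G} (hw : w ∈ Q) (hw1 : w ≠ 1) (hwt : w ≠ t) (ht : t ∈ Q) (ht1 : t ≠ 1)
    (huπ : Commute u π₀) (hinv : t * u * t⁻¹ = u⁻¹) : u * u = 1 := by
  -- every nonidentity element of `Q` inverts `u`
  have hall : ∀ z ∈ Q, z ≠ 1 → z * u * z⁻¹ = u⁻¹ := by
    intro z hz hz1
    obtain ⟨n, hn⟩ := htrans t ht ht1 z hz hz1
    have hcn : Commute u (π₀ ^ n) := huπ.pow_right n
    rw [← hn]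
    have h1 : (π₀ ^ n * t * (π₀ ^ n)⁻¹) * u * (π₀ ^ n * t * (π₀ ^ n)⁻¹)⁻¹ =
        π₀ ^ n * (t * ((π₀ ^ n)⁻¹ * u * π₀ ^ n) * t⁻¹) * (π₀ ^ n)⁻¹ := by group
    have h2 : (π₀ ^ n)⁻¹ * u * π₀ ^ n = u := by
      have : u * π₀ ^ n = π₀ ^ n * u := hcn
      rw [mul_assoc, this]
      group
    rw [h1, h2, hinv]
    have h3 : π₀ ^ n * u⁻¹ * (π₀ ^ n)⁻¹ = u⁻¹ := by
      have : u⁻¹ * π₀ ^ n = π₀ ^ n * u⁻¹ := (hcn.inv_left)
      rw [← this]
      group
    exact h3
  have hwt2 : t * w ≠ 1 := by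
    intro h
    apply hwt
    have h1 : t * t = 1 := hsq t ht
    have : t * w = t * t := by rw [h, h1]
    exact (mul_left_cancel this)
  have h3 := hall (t * w) (Q.mul_mem ht hw) hwt2
  have h4 := hall w hw hw1
  have h5 : (t * w) * u * (t * w)⁻¹ = t * (w * u * w⁻¹) * t⁻¹ := by group
  rw [h5, h4] at h3
  have h6 : t * u⁻¹ * t⁻¹ = (t * u * t⁻¹)⁻¹ := by group
  rw [h6, hinv, inv_inv] at h3
  -- `h3 : u = u⁻¹`
  calc u * u = u * u⁻¹ := by rw [← h3]
    _ = 1 := by group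

/-- The context: a minimal counterexample in the second alternative. -/
structure Ctx (G : Type u) [Group G] [Finite G] (p a : ℕ) : Prop where
  hp : p.Prime
  hp2 : p ≠ 2
  hcard : (Nat.card G).factorization 2 = a
  hpa : p = 2 ^ a - 1
  hab : ∀ P : Sylow p G, IsMulCommutative P
  hpG : p ∣ Nat.card G
  h2G : 2 ∣ Nat.card G
  hmix : ∀ H : Subgroup G, H ≠ ⊤ → ¬ IsPGroup 2 H → 2 ∣ Nat.card H → p ∣ Nat.card H
  hF1 : ∀ K : Subgroup G, K ≠ ⊤ → 2 ∣ Nat.card K → ∀ r, r.Prime → r ∣ Nat.card K → r = p ∨ r = 2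
  hexo : ∃ r, r.Prime ∧ r ∣ Nat.card G ∧ r ≠ p ∧ r ≠ 2

/-- The data of a Sylow `2`-subgroup with a transitive `p`-element. -/
structure Good (p a : ℕ) (Q : Subgroup G) (y : G) : Prop where
  card : Nat.card Q = 2 ^ a
  sq : ∀ x ∈ Q, x * x = 1
  pe : PE p y
  norm : y ∈ normalizer (Q : Set G)
  trans : ∀ x₁ ∈ Q, x₁ ≠ 1 → ∀ x₂ ∈ Q, x₂ ≠ 1 → ∃ n : ℕ, y ^ n * x₁ * (y ^ n)⁻¹ = x₂

/-- commutativity from exponent two -/
theorem comm_of_sq {Q : Subgroup G} (hsq : ∀ x ∈ Q, x * x = 1) : ∀ x ∈ Q, ∀ z ∈ Q, Commute x z := by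
  intro x hx z hz
  have h1 := hsq _ (Q.mul_mem hx hz)
  have h2 := hsq x hx
  have h3 := hsq z hz
  have : x * z = z * x := by
    have hxi : x⁻¹ = x := inv_eq_of_mul_eq_one_left h2
    have hzi : z⁻¹ = z := inv_eq_of_mul_eq_one_left h3
    have := inv_eq_of_mul_eq_one_left h1
    rw [mul_inv_rev, hxi, hzi] at this
    exact this.symm
  exact this

theorem inv_of_sq {x : G} (h : x * x = 1) : x⁻¹ = x := inv_eq_of_mul_eq_one_left h

/-- The conjugate of a subgroup. -/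
def conjS (g : G) (Q : Subgroup G) : Subgroup G := Q.map (MulAut.conj g).toMonoidHom

theorem mem_conjS {g x : G} {Q : Subgroup G} : x ∈ conjS g Q ↔ g⁻¹ * x * g ∈ Q := by
  constructor
  · rintro ⟨z, hz, rfl⟩
    simpa [mul_assoc] using hz
  · intro h
    refine ⟨_, h, ?_⟩
    simp [mul_assoc]

theorem conj_mem_conjS {g x : G} {Q : Subgroup G} (h : x ∈ Q) : g * x * g⁻¹ ∈ conjS g Q := by
  rw [mem_conjS]
  simpa [mul_assoc] using h

theorem card_conjS (g : G) (Q : Subgroup G) : Nat.card (conjS g Q) = Nat.card Q :=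
  Nat.card_congr (Q.equivMapOfInjective _ (MulAut.conj g).injective).toEquiv.symm

theorem Good.conj {p a : ℕ} {Q : Subgroup G} {y : G} (h : Good p a Q y) (g : G) :
    Good p a (conjS g Q) (g * y * g⁻¹) := by
  refine ⟨by rw [card_conjS, h.card], ?_, h.pe.conj g, ?_, ?_⟩
  · intro x hx
    rw [mem_conjS] at hx
    have := h.sq _ hx
    have h2 : g⁻¹ * (x * x) * g = 1 := by
      calc g⁻¹ * (x * x) * g = (g⁻¹ * x * g) * (g⁻¹ * x * g) := by group
        _ = 1 := this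
    have h3 : x * x = g * (g⁻¹ * (x * x) * g) * g⁻¹ := by group
    rw [h3, h2]
    group
  · rw [mem_nor]
    intro x
    rw [mem_conjS, mem_conjS]
    have h1 : g⁻¹ * ((g * y * g⁻¹) * x * (g * y * g⁻¹)⁻¹) * g = y * (g⁻¹ * x * g) * y⁻¹ := by group
    rw [h1]
    exact mem_nor.1 h.norm _
  · intro x₁ hx₁ hx₁1 x₂ hx₂ hx₂1
    rw [mem_conjS] at hx₁ hx₂
    have n1 : g⁻¹ * x₁ * g ≠ 1 := by
      intro h'
      apply hx₁1
      have : x₁ = g * (g⁻¹ * x₁ * g) * g⁻¹ := by group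
      rw [this, h']
      group
    have n2 : g⁻¹ * x₂ * g ≠ 1 := by
      intro h'
      apply hx₂1
      have : x₂ = g * (g⁻¹ * x₂ * g) * g⁻¹ := by group
      rw [this, h']
      group
    obtain ⟨n, hn⟩ := h.trans _ hx₁ n1 _ hx₂ n2
    refine ⟨n, ?_⟩
    rw [conj_pow]
    have h2 : x₂ = g * (g⁻¹ * x₂ * g) * g⁻¹ := by group
    rw [h2, ← hn]
    group

/-- `Good` with respect to powers of another transitive element. -/
theorem Good.comm {p a : ℕ} {Q : Subgroup G} {y : G} (h : Good p a Q y) :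
    ∀ x ∈ Q, ∀ z ∈ Q, Commute x z := comm_of_sq h.sq

theorem Good.isPGroup {p a : ℕ} [Finite G] {Q : Subgroup G} {y : G} (h : Good p a Q y) : IsPGroup 2 Q :=
  IsPGroup.of_card h.card

namespace Ctx

variable [Finite G] {p a : ℕ}

theorem two_le (C : Ctx G p a) : 2 ≤ a := by
  by_contra h
  have hp := C.hp
  have hpa := C.hpa
  interval_cases a
  · simp at hpa
    exact hp.ne_zero hpa
  · simp at hpa
    exact hp.ne_one hpa

theorem pow_eq (C : Ctx G p a) : 2 ^ a = p + 1 := by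
  have := C.hpa
  have h2 : 1 ≤ 2 ^ a := Nat.one_le_two_pow
  omega

theorem fact_p (C : Ctx G p a) : Fact p.Prime := ⟨C.hp⟩

theorem four_le (C : Ctx G p a) : 4 ≤ 2 ^ a :=
  calc 4 = 2 ^ 2 := by norm_num
    _ ≤ 2 ^ a := Nat.pow_le_pow_right (by norm_num) C.two_le

/-- Elements of a Sylow `p`-subgroup commute. -/
theorem sylow_comm (C : Ctx G p a) (P : Sylow p G) {x z : G} (hx : x ∈ P) (hz : z ∈ P) :
    Commute x z := by
  haveI := C.hab P
  have : (⟨x, hx⟩ : (P : Subgroup G)) * ⟨z, hz⟩ = ⟨z, hz⟩ * ⟨x, hx⟩ := mul_comm' _ _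
  exact congrArg Subtype.val this

/-- Elements of a `p`-subgroup commute. -/
theorem pgroup_comm (C : Ctx G p a) {X : Subgroup G} (hX : IsPGroup p X) {x z : G} (hx : x ∈ X)
    (hz : z ∈ X) : Commute x z := by
  haveI := C.fact_p
  obtain ⟨P, hP⟩ := hX.exists_le_sylow
  exact C.sylow_comm P (hP hx) (hP hz)

theorem exists_sylow_mem (C : Ctx G p a) {x : G} (hx : PE p x) : ∃ P : Sylow p G, x ∈ P := by
  haveI := C.fact_p
  obtain ⟨P, hP⟩ := (isPGroup_zpowers_of_PE hx).exists_le_sylow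
  exact ⟨P, hP (mem_zpowers x)⟩

/-- A `2`-subgroup has order dividing `2 ^ a`. -/
theorem card_dvd_two (C : Ctx G p a) {X : Subgroup G} (hX : IsPGroup 2 X) : Nat.card X ∣ 2 ^ a := by
  have := card_dvd_of_isPGroup Nat.prime_two hX
  rwa [C.hcard] at this

theorem eq_one (C : Ctx G p a) {x : G} (hx : PE p x) (h : x * x = 1) : x = 1 :=
  hx.eq_one_of_mul_self C.hp C.hp2 h

theorem mul_self_ne_one (C : Ctx G p a) {x : G} (hx : PE p x) (h : x ≠ 1) : x * x ≠ 1 :=
  fun h' => h (C.eq_one hx h')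

/-- `no_mixed` in context -/
theorem no_mixed' (C : Ctx G p a) {X R : Subgroup G} {r : ℕ} (hr : r.Prime) (hrp : r ≠ p)
    (hrq : r ≠ 2) (hX : IsPGroup 2 X) (hX1 : X ≠ ⊥) (hR : IsPGroup r R) (hR1 : R ≠ ⊥)
    (hn : X ≤ normalizer (R : Set G) ∨ R ≤ normalizer (X : Set G)) : False :=
  no_mixed C.hp Nat.prime_two C.hpG C.hmix hr hrp hrq C.hp2 hX hX1 hR hR1 hn

/-- A nontrivial `2`-element normalizing an odd subgroup: its primes are `p`. -/
theorem prime_eq (C : Ctx G p a) {K : Subgroup G} {x : G} (hx1 : x ≠ 1) (hxq : PE 2 x)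
    (hxK : x ∈ normalizer (K : Set G)) (hK2 : ¬ 2 ∣ Nat.card K) {r : ℕ} (hr : r.Prime)
    (hrK : r ∣ Nat.card K) : r = p := by
  have hr2 : r ≠ 2 := by
    rintro rfl
    exact hK2 hrK
  exact prime_of_dvd_of_normalized C.hp Nat.prime_two C.hpG C.hmix C.hp2 hx1 hxq hxK hK2 hr hrK hr2

/-- Odd-order elements normalizing a nontrivial `2`-subgroup are `p`-elements. -/
theorem pe_of_nor (C : Ctx G p a) {X : Subgroup G} (hX : IsPGroup 2 X) (hX1 : X ≠ ⊥) {g : G}
    (hg : g ∈ normalizer (X : Set G)) (hco : Nat.Coprime (orderOf g) 2) : PE p g :=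
  pe_of_normalizer C.hp Nat.prime_two C.hpG C.hmix C.hp2 hX hX1 hg hco

/-- An odd-order element inverted by an involution is a `p`-element. -/
theorem pe_of_inverted (C : Ctx G p a) {t x : G} (ht : t * t = 1) (ht1 : t ≠ 1)
    (hinv : t * x * t⁻¹ = x⁻¹) (hodd : Nat.Coprime (orderOf x) 2) : PE p x := by
  have hpos : orderOf x ≠ 0 := (orderOf_pos x).ne'
  have hall : ∀ r, r.Prime → r ∣ orderOf x → r = p := by
    intro r hr hrg
    by_contra hrp
    have hrq : r ≠ 2 := by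
      rintro rfl
      exact (Nat.prime_two.coprime_iff_not_dvd.1 hodd.symm) hrg
    haveI : Fact r.Prime := ⟨hr⟩
    have ho : orderOf (x ^ (orderOf x / r)) = r := orderOf_pow_orderOf_div hpos hrg
    have hRp : IsPGroup r (zpowers (x ^ (orderOf x / r))) := by
      apply isPGroup_zpowers_of_PE
      exact PE.of_orderOf (k := 1) (by rw [ho, pow_one])
    have hX : IsPGroup 2 (zpowers t) := isPGroup_zpowers_of_PE ⟨1, by rw [pow_one, pow_two, ht]⟩
    refine C.no_mixed' hr hrp hrq hX ?_ hRp ?_ (Or.inl ?_)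
    · intro h
      have : t ∈ zpowers t := mem_zpowers _
      rw [h, Subgroup.mem_bot] at this
      exact ht1 this
    · intro h
      have : x ^ (orderOf x / r) ∈ zpowers (x ^ (orderOf x / r)) := mem_zpowers _
      rw [h, Subgroup.mem_bot] at this
      rw [this, orderOf_one] at ho
      exact hr.one_lt.ne ho
    · rw [zpowers_le]
      apply mem_nor_of_forall
      intro z hz
      obtain ⟨i, rfl⟩ := hz
      refine ⟨-i, ?_⟩
      have hb : t * x ^ (orderOf x / r) * t⁻¹ = (x ^ (orderOf x / r))⁻¹ := by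
        rw [← conj_pow, hinv, inv_pow]
      change (x ^ (orderOf x / r)) ^ (-i) = t * (x ^ (orderOf x / r)) ^ i * t⁻¹
      rw [← conj_zpow, hb, inv_zpow, zpow_neg]
  exact PE.of_orderOf (Nat.eq_prime_pow_of_unique_prime_dvd hpos (fun {r} hr hrg => hall r hr hrg))

end Ctx

end Cfsg.Agent.Lib.MixedPrime
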