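import Cfsg.Agent.Lib.MixedPrime.Simple

/-!
# Mixed subgroups and primes: local structure
-/

set_option autoImplicit false

namespace Cfsg.Agent.Lib.MixedPrime

open Cfsg Cfsg.Agent.Lib.Transfer.Basic Cfsg.Agent.Lib.Transfer.Frobenius
open Subgroup

universe u

variable {G : Type u} [Group G]

/-- Centralizer of an element. -/
abbrev cen (z : G) : Subgroup G := centralizer ({z} : Set G)

theorem mem_cen {g z : G} : g ∈ cen z ↔ Commute g z := by
  rw [cen, Subgroup.mem_centralizer_singleton_iff]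
  exact Iff.rfl

namespace Ctx

variable [Finite G] {p a : ℕ}

theorem exists_other (C : Ctx G p a) {Q : Subgroup G} {y : G} (h : Good p a Q y) (s : G) :
    ∃ w ∈ Q, w ≠ 1 ∧ w ≠ s := by
  by_contra hcon
  push Not at hcon
  have hsub : (Q : Set G) ⊆ {1, s} := by
    intro w hw
    by_cases hw1 : w = 1
    · left
      exact hw1
    · right
      exact hcon w hw hw1
  have hcard : Nat.card Q ≤ 2 := by
    have h3 : (Q : Set G).ncard ≤ ({1, s} : Set G).ncard :=
      Set.ncard_le_ncard hsub (Set.toFinite _)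
    have h4 : ({1, s} : Set G).ncard ≤ 2 := by
      refine (Set.ncard_insert_le 1 {s}).trans ?_
      simp
    exact h3.trans h4
  rw [h.card] at hcard
  have := C.four_le
  omega

/-- Local Frobenius: a subgroup with an involution satisfying the Frobenius condition
has a normal Sylow `p`-subgroup and a factorization. -/
theorem frob_local (C : Ctx G p a) {L : Subgroup G} {w₀ : G} (hw₀ : w₀ ∈ L) (hw₁ : w₀ ≠ 1)
    (hw₂ : w₀ * w₀ = 1)
    (hcond : ∀ X : Subgroup G, X ≤ L → IsPGroup 2 X → X ≠ ⊥ → ∀ g ∈ L,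
      g ∈ normalizer (X : Set G) → PE p g → ∀ x ∈ X, Commute g x) :
    ∃ K : Subgroup G, IsPGroup p K ∧ K ≤ L ∧ (∀ g ∈ L, PE p g → g ∈ K) ∧
      (∀ g ∈ L, g ∈ normalizer (K : Set G)) ∧
      (∀ T : Subgroup G, T ≤ L → Nat.card T = 2 ^ a → ∀ g ∈ L, ∃ k ∈ K, ∃ w ∈ T, k * w = g) := by
  have hF : FrobeniusCond 2 L := by
    intro D hD g hg hco
    by_cases hD1 : D = ⊥
    · subst hD1
      rw [Cfsg.Agent.Lib.Transfer.Frobenius.mem_centralizer_iff']
      intro x hx
      rw [Subgroup.mem_bot.1 hx]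
      group
    set X : Subgroup G := D.map L.subtype with hXdef
    have hX : IsPGroup 2 X := hD.map _
    have hX1 : X ≠ ⊥ := by
      intro h
      apply hD1
      exact (Subgroup.map_eq_bot_iff_of_injective D L.subtype_injective).1 h
    have hgN : (g : G) ∈ normalizer (X : Set G) := by
      apply mem_nor_of_forall
      rintro _ ⟨d, hd, rfl⟩
      refine ⟨g * d * g⁻¹, (Cfsg.Agent.Lib.Transfer.Frobenius.mem_normalizer_iff'.1 hg d).1 hd, ?_⟩
      simp
    have hco' : Nat.Coprime (orderOf (g : G)) 2 := by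
      rwa [Subgroup.orderOf_coe]
    have hpe : PE p (g : G) := C.pe_of_nor hX hX1 hgN hco'
    have hXL : X ≤ L := Subgroup.map_subtype_le D
    have key := hcond X hXL hX hX1 g g.2 hgN hpe
    rw [Cfsg.Agent.Lib.Transfer.Frobenius.mem_centralizer_iff']
    intro x hx
    have h1 := key x ⟨x, hx, rfl⟩
    apply Subtype.ext
    have h2 : (g : G) * x = x * g := h1
    simp only [Subgroup.coe_mul, Subgroup.coe_inv, h2]
    group
  obtain ⟨P₂, N, hN, hc⟩ := hasNormalPComplement_of_frobeniusCond hF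
  set K : Subgroup G := N.map L.subtype with hKdef
  have hKL : K ≤ L := Subgroup.map_subtype_le N
  have hcardK : Nat.card K = Nat.card N :=
    Nat.card_congr (N.equivMapOfInjective _ L.subtype_injective).toEquiv.symm
  have h2N : ¬ 2 ∣ Nat.card N := by
    have := P₂.not_dvd_index
    have h3 : (P₂ : Subgroup L).index = Nat.card N := hc.index_eq_card
    rwa [h3] at this
  have hnorm : ∀ g ∈ L, g ∈ normalizer (K : Set G) := by
    intro g hg
    apply mem_nor_of_forall
    rintro _ ⟨d, hd, rfl⟩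
    refine ⟨(⟨g, hg⟩ : L) * d * (⟨g, hg⟩ : L)⁻¹, hN.conj_mem d hd ⟨g, hg⟩, ?_⟩
    simp
  have hKp : IsPGroup p K := by
    apply IsPGroup.of_card (n := (Nat.card K).factorization p)
    have hn : Nat.card K ≠ 0 := Nat.card_pos.ne'
    by_cases h1 : Nat.card K = 1
    · rw [h1]
      simp
    have hall : ∀ {r : ℕ}, r.Prime → r ∣ Nat.card K → r = p := by
      intro r hr hrM
      exact C.prime_eq hw₁ ⟨1, by rw [pow_one, pow_two, hw₂]⟩ (hnorm w₀ hw₀)
        (by rw [hcardK]; exact h2N) hr hrM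
    obtain ⟨e, he⟩ : ∃ e, Nat.card K = p ^ e := ⟨_, Nat.eq_prime_pow_of_unique_prime_dvd hn hall⟩
    rw [he, C.hp.factorization_pow]
    simp
  have hcardL : Nat.card N * Nat.card P₂ = Nat.card L := hc.card_mul_card
  refine ⟨K, hKp, hKL, ?_, hnorm, ?_⟩
  · intro g hg hpe
    obtain ⟨e, he⟩ := IsPGroup.iff_card.1 P₂.isPGroup'
    have hidx : N.index = 2 ^ e := by
      have : N.index = Nat.card (P₂ : Subgroup L) := hc.symm.index_eq_card
      rw [this, he]
    obtain ⟨k, hk⟩ := hpe.orderOf_eq C.hp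
    have hg' : (⟨g, hg⟩ : L) ^ N.index ∈ N := N.pow_index_mem _
    have hco : Nat.Coprime N.index (orderOf (⟨g, hg⟩ : L)) := by
      rw [Subgroup.orderOf_mk, hk, hidx]
      exact Nat.Coprime.pow _ _ ((Nat.coprime_primes Nat.prime_two C.hp).2 (Ne.symm C.hp2))
    obtain ⟨m, hm⟩ := exists_pow_eq_self_of_coprime hco
    have h3 : (⟨g, hg⟩ : L) ∈ N := by
      rw [← hm]
      exact N.pow_mem hg' m
    exact ⟨_, h3, rfl⟩
  · intro T hT hTc g hg
    -- factorization
    have hd2 : 2 ^ a ∣ Nat.card L := by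
      rw [← hTc]
      exact Subgroup.card_dvd_of_le hT
    have hLn : Nat.card L ≠ 0 := Nat.card_pos.ne'
    have hv : (Nat.card L).factorization 2 = a := by
      apply le_antisymm
      · rw [← C.hcard]
        exact (Nat.factorization_le_iff_dvd hLn Nat.card_pos.ne').2
          (Subgroup.card_subgroup_dvd_card L) 2
      · exact (Nat.prime_two.pow_dvd_iff_le_factorization hLn).1 hd2
    have hP₂c : Nat.card (P₂ : Subgroup L) = 2 ^ a := by
      rw [Sylow.card_eq_multiplicity, hv]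
    have hprod : Nat.card K * Nat.card T = Nat.card L := by
      rw [hcardK, hTc, ← hP₂c]
      exact hcardL
    have hco : (Nat.card K).Coprime (Nat.card T) := by
      rw [hTc]
      exact Nat.Coprime.pow_right _ (Nat.Coprime.symm (Nat.prime_two.coprime_iff_not_dvd.2
        (by rw [hcardK]; exact h2N)))
    exact exists_mul_of_card hKL hT hprod hco g hg

/-- Structure of centralizers of involutions. -/
theorem cent_struct (C : Ctx G p a) {t : G} (htt : t * t = 1) (ht1 : t ≠ 1) :
    ∃ K : Subgroup G, IsPGroup p K ∧ K ≤ cen t ∧ (∀ g, Commute g t → PE p g → g ∈ K) ∧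
      (∀ g, Commute g t → g ∈ normalizer (K : Set G)) ∧
      (∀ T : Subgroup G, T ≤ cen t → Nat.card T = 2 ^ a → ∀ g, Commute g t →
        ∃ k ∈ K, ∃ w ∈ T, k * w = g) := by
  have hmem : t ∈ cen t := mem_cen.2 (Commute.refl t)
  obtain ⟨K, h1, h2, h3, h4, h5⟩ := C.frob_local hmem ht1 htt (by
    intro X hXL hX hX1 g hg hgN hpe
    have hg' : Commute g t := mem_cen.1 hg
    have htX : ∀ x ∈ X, Commute x t := fun x hx => mem_cen.1 (hXL hx)
    have hzt : zpowers t ≤ normalizer (X : Set G) := by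
      rw [zpowers_le]
      apply mem_nor_of_forall
      intro x hx
      have : t * x = x * t := (htX x hx).symm
      rw [this]
      simpa using hx
    have hZ : IsPGroup 2 (zpowers t) := isPGroup_zpowers_of_PE ⟨1, by rw [pow_one, pow_two, htt]⟩
    have hX₁ : IsPGroup 2 (X ⊔ zpowers t : Subgroup G) := IsPGroup.to_sup_of_normal_left' hX hZ hzt
    set X₁ : Subgroup G := X ⊔ zpowers t with hX₁def
    have htX₁ : t ∈ X₁ := mem_sup_right (mem_zpowers t)
    have hS : ∀ x ∈ (X₁ : Set G) \ {1, t}, g * x * g⁻¹ ∈ (X₁ : Set G) \ {1, t} := by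
      rintro x ⟨hx, hx1⟩
      constructor
      · refine Cfsg.Agent.Lib.Signal.Basic.conj_mem_sup (fun z hz =>
          (Cfsg.Agent.Lib.Transfer.Frobenius.mem_normalizer_iff'.1 hgN z).1 hz) ?_ hx
        rintro _ ⟨i, rfl⟩
        have : g * t ^ i = t ^ i * g := ((hg'.zpow_right i)).eq
        refine ⟨i, ?_⟩
        change t ^ i = g * t ^ i * g⁻¹
        rw [this]
        group
      · rintro (h' | h')
        · apply hx1
          left
          have h'' : g * x * g⁻¹ = 1 := h'
          have : x = g⁻¹ * (g * x * g⁻¹) * g := by group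
          rw [this, h'']
          simp
        · apply hx1
          right
          have h'' : g * x * g⁻¹ = t := h'
          have h7 : g * x = t * g := by rw [← h'']; group
          have h8 : g * x = g * t := by rw [h7]; exact hg'.symm.eq
          exact mul_left_cancel h8
    have hcard : ((X₁ : Set G) \ {1, t}).ncard < p := by
      have hsub : ({1, t} : Set G) ⊆ X₁ := by
        rintro x (rfl | rfl)
        · exact one_mem _
        · exact htX₁
      rw [Set.ncard_sdiff hsub (Set.toFinite _), Set.ncard_pair (Ne.symm ht1)]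
      have h5 : (X₁ : Set G).ncard = Nat.card X₁ := rfl
      rw [h5]
      have h6 : Nat.card X₁ ≤ 2 ^ a := Nat.le_of_dvd (by positivity) (C.card_dvd_two hX₁)
      have h7 := C.pow_eq
      have h8 := C.hp.two_le
      omega
    have key := conj_trivial C.hp hpe hS hcard
    intro x hx
    by_cases hx1 : x = 1
    · rw [hx1]
      exact Commute.one_right g
    by_cases hx2 : x = t
    · rw [hx2]
      exact hg'
    refine key x ⟨mem_sup_left hx, ?_⟩
    rintro (h' | h')
    · exact hx1 h'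
    · exact hx2 h')
  refine ⟨K, h1, h2, fun g hg hpe => h3 g (mem_cen.2 hg) hpe, fun g hg => h4 g (mem_cen.2 hg), ?_⟩
  intro T hT hTc g hg
  exact h5 T hT hTc g (mem_cen.2 hg)

/-- `p`-elements commuting with an involution commute. -/
theorem pe_comm_of_cen (C : Ctx G p a) {t : G} (htt : t * t = 1) (ht1 : t ≠ 1) {u v : G}
    (hu : PE p u) (hv : PE p v) (hut : Commute u t) (hvt : Commute v t) : Commute u v := by
  obtain ⟨K, h1, -, h3, -, -⟩ := C.cent_struct htt ht1
  exact C.pgroup_comm h1 (h3 u hut hu) (h3 v hvt hv)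

/-- If `u ≠ 1` is inverted by an involution then `C(u)` contains no Sylow `2`-subgroup. -/
theorem no_full_of_inverted (C : Ctx G p a) {u s : G} (hu : PE p u) (hu1 : u ≠ 1) (hs : s * s = 1)
    (hinv : s * u * s⁻¹ = u⁻¹) {T : Subgroup G} (hT : T ≤ cen u) (hTc : Nat.card T = 2 ^ a) :
    False := by
  have hsN : s ∈ normalizer (cen u : Set G) := by
    apply mem_nor_of_forall
    intro x hx
    rw [mem_cen] at hx ⊢
    change (s * x * s⁻¹) * u = u * (s * x * s⁻¹)
    have hsi : s⁻¹ = s := inv_of_sq hs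
    have h1 : s * u * s = u⁻¹ := by rwa [hsi] at hinv
    have h2 : s * u⁻¹ * s = u := by
      have : s * u⁻¹ * s = (s * u * s)⁻¹ := by
        rw [mul_inv_rev, mul_inv_rev, hsi]
        group
      rw [this, h1, inv_inv]
    have h3 : x * u⁻¹ = u⁻¹ * x := hx.inv_right.eq
    rw [hsi]
    calc s * x * s * u = s * x * (s * u * s) * s := by
          rw [show s * x * (s * u * s) * s = s * x * s * u * (s * s) by group, hs, mul_one]
      _ = s * (x * u⁻¹) * s := by rw [h1]; group
      _ = s * (u⁻¹ * x) * s := by rw [h3]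
      _ = (s * u⁻¹ * s) * (s * x * s) := by
          rw [show (s * u⁻¹ * s) * (s * x * s) = s * u⁻¹ * (s * s) * x * s by group, hs, mul_one]
          group
      _ = u * (s * x * s) := by rw [h2]
  have hsnot : s ∉ cen u := by
    intro h
    have h1 : s * u = u * s := mem_cen.1 h
    have h2 : s * u * s⁻¹ = u := by rw [h1]; group
    rw [h2] at hinv
    have : u * u = 1 := by
      calc u * u = u * u⁻¹ := by rw [← hinv]
        _ = 1 := by group
    exact hu1 (C.eq_one hu this)
  have hs1 : s ≠ 1 := by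
    rintro rfl
    exact hsnot (one_mem _)
  have hordS : orderOf s = 2 := orderOf_eq_prime (by rw [pow_two, hs]) hs1
  set L : Subgroup G := cen u ⊔ zpowers s with hL
  have hle : cen u ≤ L := le_sup_left
  have hd1 : Nat.card L ∣ Nat.card (cen u) * Nat.card (zpowers s) :=
    Cfsg.Agent.Lib.Signal.Basic.card_sup_dvd_of_le_normalizer (by
      rw [zpowers_le]
      exact hsN)
  rw [Nat.card_zpowers, hordS] at hd1
  obtain ⟨k, hk⟩ := Subgroup.card_dvd_of_le hle
  have hcpos : 0 < Nat.card (cen u) := Nat.card_pos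
  have hk2 : k ∣ 2 := by
    rw [hk] at hd1
    exact Nat.dvd_of_mul_dvd_mul_left hcpos hd1
  have hk1 : k ≠ 1 := by
    rintro rfl
    rw [mul_one] at hk
    have : cen u = L := Subgroup.eq_of_le_of_card_ge hle hk.le
    apply hsnot
    rw [this]
    exact mem_sup_right (mem_zpowers s)
  have hk3 : k = 2 := by
    rcases (Nat.dvd_prime Nat.prime_two).1 hk2 with h | h
    · exact absurd h hk1
    · exact h
  rw [hk3] at hk
  have hd2 : 2 ^ a ∣ Nat.card (cen u) := by
    rw [← hTc]
    exact Subgroup.card_dvd_of_le hT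
  have hd3 : 2 ^ (a + 1) ∣ Nat.card G := by
    refine dvd_trans ?_ (Subgroup.card_subgroup_dvd_card L)
    rw [hk, pow_succ]
    exact Nat.mul_dvd_mul_right hd2 2
  have := (Nat.prime_two.pow_dvd_iff_le_factorization Nat.card_pos.ne').1 hd3
  rw [C.hcard] at this
  omega

/-- A small element lies in a unique Sylow `p`-subgroup, which contains all commuting `p`-elements. -/
theorem small_sylow (C : Ctx G p a) {Q : Subgroup G} {y : G} (h : Good p a Q y) {u s w : G}
    (hu : PE p u) (hu1 : u ≠ 1) (hs : s * s = 1) (hinv : s * u * s⁻¹ = u⁻¹)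
    (hw : w * w = 1) (hw1 : w ≠ 1) (huw : Commute u w) :
    ∀ v, PE p v → Commute v u → ∀ P : Sylow p G, u ∈ P → v ∈ P := by
  haveI := C.fact_p
  have hmem : w ∈ cen u := mem_cen.2 huw.symm
  obtain ⟨K, h1, h2, h3, -, -⟩ := C.frob_local hmem hw1 hw (by
    intro X hXL hX hX1 g hg hgN hpe
    have hXc : Nat.card X ≠ 2 ^ a := fun hc => C.no_full_of_inverted hu hu1 hs hinv hXL hc
    obtain ⟨b, hb⟩ := IsPGroup.iff_card.1 hX
    have hba : b ≤ a := by
      have := C.card_dvd_two hX
      rw [hb] at this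
      exact (Nat.pow_dvd_pow_iff_le_right (by norm_num)).1 this
    have hba' : b ≠ a := by
      rintro rfl
      exact hXc hb
    have hS : ∀ x ∈ (X : Set G) \ {1}, g * x * g⁻¹ ∈ (X : Set G) \ {1} := by
      rintro x ⟨hx, hx1⟩
      refine ⟨(Cfsg.Agent.Lib.Transfer.Frobenius.mem_normalizer_iff'.1 hgN x).1 hx, ?_⟩
      intro h'
      apply hx1
      have h'' : g * x * g⁻¹ = 1 := h'
      have h6 : x = g⁻¹ * (g * x * g⁻¹) * g := by group
      rw [h6, h'']
      simp
    have hcard : ((X : Set G) \ {1}).ncard < p := by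
      have h5 : ((X : Set G) \ {1}).ncard = Nat.card X - 1 := by
        rw [Set.ncard_sdiff_singleton_of_mem (one_mem X)]
        rfl
      rw [h5, hb]
      have h7 := C.pow_eq
      have h8 : 2 ^ b < 2 ^ a := Nat.pow_lt_pow_right (by norm_num) (by omega)
      have h9 : 1 ≤ 2 ^ b := Nat.one_le_two_pow
      omega
    have key := conj_trivial C.hp hpe hS hcard
    intro x hx
    by_cases hx1 : x = 1
    · rw [hx1]
      exact Commute.one_right g
    exact key x ⟨hx, hx1⟩)
  intro v hv hvu P huP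
  have hPK : (P : Subgroup G) ≤ K := by
    intro c hc
    exact h3 c (mem_cen.2 (C.sylow_comm P hc huP)) (PE.of_mem P.isPGroup' hc)
  have hK : K = P := P.is_maximal' h1 hPK
  have : v ∈ K := h3 v (mem_cen.2 hvu) hv
  rw [hK] at this
  exact this

/-- Uniqueness of the Sylow subgroup containing a small element. -/
theorem small_unique (C : Ctx G p a) {Q : Subgroup G} {y : G} (h : Good p a Q y) {u s w : G}
    (hu : PE p u) (hu1 : u ≠ 1) (hs : s * s = 1) (hinv : s * u * s⁻¹ = u⁻¹)
    (hw : w * w = 1) (hw1 : w ≠ 1) (huw : Commute u w) {P₁ P₂ : Sylow p G} (h₁ : u ∈ P₁)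
    (h₂ : u ∈ P₂) : P₁ = P₂ := by
  haveI := C.fact_p
  have hle : (P₂ : Subgroup G) ≤ P₁ := by
    intro c hc
    exact C.small_sylow h hu hu1 hs hinv hw hw1 huw c (PE.of_mem P₂.isPGroup' hc)
      (C.sylow_comm P₂ hc h₂) P₁ h₁
  exact Sylow.ext (P₂.is_maximal' P₁.isPGroup' hle)

/-- In a proper subgroup containing `Q` and `y`, nothing is inverted by an element of `Q`. -/
theorem no_inverted_in (C : Ctx G p a) {Q : Subgroup G} {y : G} (h : Good p a Q y) {L : Subgroup G}
    (hL : L ≠ ⊤) (hQL : Q ≤ L) (hyL : y ∈ L) {x t : G} (hx : x ∈ L) (hpe : PE p x) (ht : t ∈ Q)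
    (ht1 : t ≠ 1) (hinv : t * x * t⁻¹ = x⁻¹) : x = 1 := by
  haveI := C.fact_p
  have hd2 : 2 ^ a ∣ Nat.card L := by
    rw [← h.card]
    exact Subgroup.card_dvd_of_le hQL
  have h2L : 2 ∣ Nat.card L := (dvd_pow_self 2 (by have := C.two_le; omega)).trans hd2
  have hLn : Nat.card L ≠ 0 := Nat.card_pos.ne'
  have hv : (Nat.card L).factorization 2 = a := by
    apply le_antisymm
    · rw [← C.hcard]
      exact (Nat.factorization_le_iff_dvd hLn Nat.card_pos.ne').2
        (Subgroup.card_subgroup_dvd_card L) 2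
    · exact (Nat.prime_two.pow_dvd_iff_le_factorization hLn).1 hd2
  -- a Sylow `p`-subgroup of `L` containing `x`
  have hx' : IsPGroup p (zpowers (⟨x, hx⟩ : L)) := by
    apply isPGroup_zpowers_of_PE
    obtain ⟨k, hk⟩ := hpe
    exact ⟨k, Subtype.ext hk⟩
  obtain ⟨P₁, hP₁⟩ := hx'.exists_le_sylow
  set P : Subgroup G := (P₁ : Subgroup L).map L.subtype with hPdef
  have hPL : P ≤ L := Subgroup.map_subtype_le _
  have hPp : IsPGroup p P := P₁.isPGroup'.map _
  have hxP : x ∈ P := ⟨⟨x, hx⟩, hP₁ (mem_zpowers _), rfl⟩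
  have hPc : Nat.card P = p ^ (Nat.card L).factorization p := by
    have h1 : Nat.card P = Nat.card (P₁ : Subgroup L) :=
      Nat.card_congr ((P₁ : Subgroup L).equivMapOfInjective _ L.subtype_injective).toEquiv.symm
    rw [h1, Sylow.card_eq_multiplicity]
  have hprod : Nat.card Q * Nat.card P = Nat.card L := by
    rw [h.card, hPc, ← hv]
    exact (eq_pow_mul_pow hLn C.hp C.hp2 (C.hF1 L hL h2L)).symm
  have hco : (Nat.card Q).Coprime (Nat.card P) := by
    rw [h.card, hPc]
    exact Nat.Coprime.pow _ _ ((Nat.coprime_primes Nat.prime_two C.hp).2 (Ne.symm C.hp2))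
  obtain ⟨w, hw, π₀, hπ, hwπ⟩ := exists_mul_of_card hQL hPL hprod hco y hyL
  -- the action of `π₀` on `Q` agrees with that of `y`
  have hcomQ := comm_of_sq h.sq
  have hconj : ∀ z ∈ Q, π₀ * z * π₀⁻¹ = y * z * y⁻¹ := by
    intro z hz
    have hzy : y * z * y⁻¹ ∈ Q := (mem_nor.1 h.norm z).1 hz
    have h1 : π₀ = w⁻¹ * y := by rw [← hwπ]; group
    rw [h1]
    have h2 : (w⁻¹ * y) * z * (w⁻¹ * y)⁻¹ = w⁻¹ * (y * z * y⁻¹) * w := by group
    rw [h2]
    have h3 : (y * z * y⁻¹) * w = w * (y * z * y⁻¹) := hcomQ _ hzy _ hw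
    rw [mul_assoc, h3]
    group
  have hiter : ∀ n : ℕ, ∀ z ∈ Q, y ^ n * z * (y ^ n)⁻¹ ∈ Q ∧
      π₀ ^ n * z * (π₀ ^ n)⁻¹ = y ^ n * z * (y ^ n)⁻¹ := by
    intro n z hz
    induction n with
    | zero => simpa using hz
    | succ n ih =>
      have hy := (mem_nor.1 h.norm _).1 ih.1
      have e1 : y ^ (n + 1) * z * (y ^ (n + 1))⁻¹ = y * (y ^ n * z * (y ^ n)⁻¹) * y⁻¹ := by
        rw [pow_succ']
        group
      have e2 : π₀ ^ (n + 1) * z * (π₀ ^ (n + 1))⁻¹ = π₀ * (π₀ ^ n * z * (π₀ ^ n)⁻¹) * π₀⁻¹ := by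
        rw [pow_succ']
        group
      rw [e1, e2, ih.2]
      exact ⟨hy, hconj _ ih.1⟩
  have htrans : ∀ x₁ ∈ Q, x₁ ≠ 1 → ∀ x₂ ∈ Q, x₂ ≠ 1 → ∃ n : ℕ, π₀ ^ n * x₁ * (π₀ ^ n)⁻¹ = x₂ := by
    intro x₁ h₁ h₁' x₂ h₂ h₂'
    obtain ⟨n, hn⟩ := h.trans x₁ h₁ h₁' x₂ h₂ h₂'
    exact ⟨n, by rw [(hiter n x₁ h₁).2, hn]⟩
  obtain ⟨w', hw', hw'1, hw't⟩ := C.exists_other h t
  have hcx : Commute x π₀ := C.pgroup_comm hPp hxP hπ
  exact C.eq_one hpe (lemma_Z h.sq htrans hw' hw'1 hw't ht ht1 hcx hinv)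

/-- `y` commutes with the `p`-elements centralizing `Q`. -/
theorem comm_y (C : Ctx G p a) {Q : Subgroup G} {y : G} (h : Good p a Q y) {t d : G} (ht : t ∈ Q)
    (ht1 : t ≠ 1) (hd : PE p d) (hdQ : ∀ s ∈ Q, Commute d s) : Commute y d := by
  haveI := C.fact_p
  obtain ⟨K, h1, -, h3, -, -⟩ := C.cent_struct (h.sq t ht) ht1
  set B : Subgroup G := K ⊓ centralizer (Q : Set G) with hB
  have hBp : IsPGroup p B := h1.to_le inf_le_left
  have hdB : d ∈ B := by
    refine ⟨h3 d (hdQ t ht) hd, ?_⟩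
    refine Subgroup.mem_centralizer_iff.2 ?_
    intro s hs
    exact (hdQ s hs).symm.eq
  have hyN : y ∈ normalizer (B : Set G) := by
    apply mem_nor_of_forall
    rintro x ⟨hxK, hxC⟩
    have hxpe : PE p x := PE.of_mem h1 hxK
    have hcomm : ∀ s ∈ Q, Commute (y * x * y⁻¹) s := by
      intro s hs
      -- `y⁻¹ s y ∈ Q`
      have hs' : y⁻¹ * s * y ∈ Q := by
        have := (mem_nor.1 h.norm (y⁻¹ * s * y)).2
        apply this
        simpa [mul_assoc] using hs
      have h5 : Commute x (y⁻¹ * s * y) := ((Subgroup.mem_centralizer_iff.1 hxC) _ hs').symm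
      have h6 : (y * x * y⁻¹) * s = y * (x * (y⁻¹ * s * y)) * y⁻¹ := by group
      have h7 : s * (y * x * y⁻¹) = y * ((y⁻¹ * s * y) * x) * y⁻¹ := by group
      change (y * x * y⁻¹) * s = s * (y * x * y⁻¹)
      rw [h6, h7, h5.eq]
    refine ⟨h3 _ (hcomm t ht) (hxpe.conj y), ?_⟩
    refine Subgroup.mem_centralizer_iff.2 ?_
    intro s hs
    exact (hcomm s hs).symm.eq
  have hZ : IsPGroup p (zpowers y) := isPGroup_zpowers_of_PE h.pe
  have hsup : IsPGroup p (B ⊔ zpowers y : Subgroup G) :=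
    IsPGroup.to_sup_of_normal_left' hBp hZ (by
      rw [zpowers_le]
      exact hyN)
  exact C.pgroup_comm hsup (mem_sup_right (mem_zpowers y)) (mem_sup_left hdB)

end Ctx

end Cfsg.Agent.Lib.MixedPrime
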