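import Cfsg.Agent.Lib.MixedPrime.Ctx

/-!
# Mixed subgroups and primes: the minimal counterexample is simple
-/

set_option autoImplicit false

namespace Cfsg.Agent.Lib.MixedPrime

open Cfsg Cfsg.Agent.Lib.Transfer.Basic Cfsg.Agent.Lib.Transfer.Frobenius
open Subgroup

universe u

variable {G : Type u} [Group G]

theorem conj_commutator_inv {s c : G} (hs : s * s = 1) :
    s * (c⁻¹ * (s * c * s⁻¹)) * s⁻¹ = (c⁻¹ * (s * c * s⁻¹))⁻¹ := by
  have hss : s⁻¹ * s⁻¹ = 1 := by rw [inv_of_sq hs, hs]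
  calc s * (c⁻¹ * (s * c * s⁻¹)) * s⁻¹ = (s * c⁻¹ * s⁻¹) * (s * s) * c * (s⁻¹ * s⁻¹) := by group
    _ = s * c⁻¹ * s⁻¹ * c := by rw [hs, hss]; group
    _ = _ := by group

namespace Ctx

variable [Finite G] {p a : ℕ}

theorem exists_le_conjS (C : Ctx G p a) {Q : Subgroup G} {y : G} (h : Good p a Q y) {X : Subgroup G}
    (hX : IsPGroup 2 X) : ∃ g : G, X ≤ conjS g Q := by
  let S : Sylow 2 G := Sylow.ofCard Q (by rw [h.card, C.hcard])
  obtain ⟨T, hT⟩ := hX.exists_le_sylow
  obtain ⟨g, hg⟩ := MulAction.exists_smul_eq G S T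
  refine ⟨g, fun x hx => ?_⟩
  have h1 := hT hx
  rw [← hg] at h1
  have h2 := (mem_smul_sylow_iff g x S).1 h1
  rw [mem_conjS]
  exact h2

theorem exists_good_mem (C : Ctx G p a) {Q : Subgroup G} {y : G} (h : Good p a Q y) {t : G}
    (ht : t * t = 1) : ∃ g : G, t ∈ conjS g Q := by
  have hX : IsPGroup 2 (zpowers t) := isPGroup_zpowers_of_PE ⟨1, by rw [pow_one, pow_two, ht]⟩
  obtain ⟨g, hg⟩ := C.exists_le_conjS h hX
  exact ⟨g, hg (mem_zpowers t)⟩

/-- All involutions are conjugate. -/
theorem conj_invol (C : Ctx G p a) {Q : Subgroup G} {y : G} (h : Good p a Q y) {t₁ t₂ : G}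
    (h1 : t₁ * t₁ = 1) (h1' : t₁ ≠ 1) (h2 : t₂ * t₂ = 1) (h2' : t₂ ≠ 1) :
    ∃ g : G, g * t₁ * g⁻¹ = t₂ := by
  obtain ⟨g₁, hg₁⟩ := C.exists_good_mem h h1
  obtain ⟨g₂, hg₂⟩ := C.exists_good_mem h h2
  rw [mem_conjS] at hg₁ hg₂
  have n1 : g₁⁻¹ * t₁ * g₁ ≠ 1 := by
    intro h'
    apply h1'
    have : t₁ = g₁ * (g₁⁻¹ * t₁ * g₁) * g₁⁻¹ := by group
    rw [this, h']
    group
  have n2 : g₂⁻¹ * t₂ * g₂ ≠ 1 := by
    intro h'
    apply h2'
    have : t₂ = g₂ * (g₂⁻¹ * t₂ * g₂) * g₂⁻¹ := by group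
    rw [this, h']
    group
  obtain ⟨n, hn⟩ := h.trans _ hg₁ n1 _ hg₂ n2
  refine ⟨g₂ * y ^ n * g₁⁻¹, ?_⟩
  have : t₂ = g₂ * (g₂⁻¹ * t₂ * g₂) * g₂⁻¹ := by group
  rw [this, ← hn]
  group

theorem normalizer_ne_top (C : Ctx G p a) {Q : Subgroup G} {y : G} (h : Good p a Q y) :
    normalizer (Q : Set G) ≠ ⊤ := by
  intro hN
  obtain ⟨r, hr, hrG, hrp, hr2⟩ := C.hexo
  haveI : Fact r.Prime := ⟨hr⟩
  obtain ⟨R⟩ : Nonempty (Sylow r G) := inferInstance
  have hQ1 : Q ≠ ⊥ := by
    intro hQ
    have := h.card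
    rw [hQ, Subgroup.card_bot] at this
    have h4 := C.four_le
    omega
  refine C.no_mixed' hr hrp hr2 h.isPGroup hQ1 R.isPGroup' (R.ne_bot_of_dvd_card hrG) (Or.inr ?_)
  rw [hN]
  exact le_top

/-- No proper normal subgroup has even order. -/
theorem no_even_normal (C : Ctx G p a) {Q : Subgroup G} {y : G} (h : Good p a Q y) {M : Subgroup G}
    [hMn : M.Normal] (hM : M ≠ ⊤) (h2 : 2 ∣ Nat.card M) : False := by
  -- an involution in `M`
  obtain ⟨t, ht⟩ := exists_prime_orderOf_dvd_card' (G := M) 2 h2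
  have ht1 : (t : G) ≠ 1 := by
    intro h'
    have : t = 1 := Subtype.ext h'
    rw [this, orderOf_one] at ht
    omega
  have htt : (t : G) * t = 1 := by
    have : t ^ 2 = 1 := by rw [← ht, pow_orderOf_eq_one]
    have h3 := congrArg Subtype.val this
    simpa [pow_two] using h3
  have hQM : Q ≤ M := by
    intro w hw
    by_cases hw1 : w = 1
    · rw [hw1]
      exact M.one_mem
    obtain ⟨g, hg⟩ := C.conj_invol h htt ht1 (h.sq w hw) hw1
    rw [← hg]
    exact hMn.conj_mem _ t.2 g
  let S : Sylow 2 G := Sylow.ofCard Q (by rw [h.card, C.hcard])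
  have hsup : normalizer ((S : Subgroup G) : Set G) ⊔ M = ⊤ := Sylow.normalizer_sup_eq_top' S hQM
  have hNQ : normalizer (Q : Set G) ≠ ⊤ := C.normalizer_ne_top h
  have hN2 : 2 ∣ Nat.card (normalizer (Q : Set G)) := by
    have hQN : Q ≤ normalizer (Q : Set G) := le_normalizer
    have h3 : Nat.card Q ∣ Nat.card (normalizer (Q : Set G)) := Subgroup.card_dvd_of_le hQN
    rw [h.card] at h3
    exact (dvd_pow_self 2 (by have := C.two_le; omega)).trans h3
  obtain ⟨r, hr, hrG, hrp, hr2⟩ := C.hexo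
  have hd : Nat.card (M ⊔ normalizer (Q : Set G) : Subgroup G) ∣
      Nat.card M * Nat.card (normalizer (Q : Set G)) :=
    Cfsg.Agent.Lib.Signal.Basic.card_sup_dvd_of_le_normalizer (by
      intro x _
      exact mem_nor_of_forall (fun z hz => hMn.conj_mem z hz x))
  have hsup' : (M ⊔ normalizer (Q : Set G) : Subgroup G) = ⊤ := by
    rw [sup_comm]
    exact hsup
  rw [hsup', Subgroup.card_top] at hd
  rcases (hr.dvd_mul).1 (hrG.trans hd) with h3 | h3
  · rcases C.hF1 M hM h2 r hr h3 with h4 | h4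
    · exact hrp h4
    · exact hr2 h4
  · rcases C.hF1 _ hNQ hN2 r hr h3 with h4 | h4
    · exact hrp h4
    · exact hr2 h4

open scoped IsMulCommutative in
/-- No nontrivial central `p`-element. -/
theorem no_central (C : Ctx G p a) {Q : Subgroup G} {y : G} (h : Good p a Q y) {c : G}
    (hc : PE p c) (hc1 : c ≠ 1) (hcen : ∀ g : G, Commute c g) : False := by
  haveI := C.fact_p
  obtain ⟨P, hP⟩ := C.exists_sylow_mem hc
  haveI := C.hab P
  haveI : (P : Subgroup G).FiniteIndex := inferInstance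
  let V : G →* (P : Subgroup G) := (MonoidHom.id (P : Subgroup G)).transfer
  have key : ∀ (k : ℕ) (g₀ : G), g₀⁻¹ * c ^ k * g₀ ∈ (P : Subgroup G) →
      g₀⁻¹ * c ^ k * g₀ = c ^ k := by
    intro k g₀ _
    have h1 : c ^ k * g₀ = g₀ * c ^ k := ((hcen g₀).pow_left k).eq
    rw [mul_assoc, h1]
    group
  have hV : V c = ⟨c ^ (P : Subgroup G).index, MonoidHom.transfer_eq_pow_aux c key⟩ :=
    MonoidHom.transfer_eq_pow _ c key
  have hne : V c ≠ 1 := by
    rw [hV]
    intro h1
    have h2 : c ^ (P : Subgroup G).index = 1 := congrArg Subtype.val h1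
    obtain ⟨k, hk⟩ := hc.orderOf_eq C.hp
    have h3 : orderOf c ∣ (P : Subgroup G).index := orderOf_dvd_of_pow_eq_one h2
    have hk0 : k ≠ 0 := by
      rintro rfl
      rw [pow_zero] at hk
      exact hc1 (orderOf_eq_one_iff.1 hk)
    rw [hk] at h3
    exact P.not_dvd_index ((dvd_pow_self p hk0).trans h3)
  have htop : V.ker ≠ ⊤ := by
    intro h1
    apply hne
    have : c ∈ V.ker := h1 ▸ mem_top c
    exact this
  -- an involution is in the kernel
  obtain ⟨t, ht⟩ := exists_prime_orderOf_dvd_card' (G := G) 2 C.h2G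
  have htt : t * t = 1 := by
    have : t ^ 2 = 1 := by rw [← ht, pow_orderOf_eq_one]
    simpa [pow_two] using this
  have htk : t ∈ V.ker := by
    rw [MonoidHom.mem_ker]
    have h1 : V t * V t = 1 := by rw [← map_mul, htt, map_one]
    have h2 : ((V t : (P : Subgroup G)) : G) * (V t : G) = 1 := congrArg Subtype.val h1
    have h3 : PE p ((V t : (P : Subgroup G)) : G) := PE.of_mem P.isPGroup' (V t).2
    exact Subtype.ext (C.eq_one h3 h2)
  have h2k : 2 ∣ Nat.card V.ker := by
    have h1 : orderOf (⟨t, htk⟩ : V.ker) = 2 := by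
      rw [← Subgroup.orderOf_coe]
      exact ht
    rw [← h1]
    exact orderOf_dvd_natCard _
  exact C.no_even_normal h htop h2k

/-- No nontrivial normal subgroup has odd order. -/
theorem no_odd_normal (C : Ctx G p a) {Q : Subgroup G} {y : G} (h : Good p a Q y) {M : Subgroup G}
    [hMn : M.Normal] (hM : M ≠ ⊥) (h2 : ¬ 2 ∣ Nat.card M) : False := by
  -- an involution
  obtain ⟨t, ht⟩ := exists_prime_orderOf_dvd_card' (G := G) 2 C.h2G
  have htt : t * t = 1 := by
    have : t ^ 2 = 1 := by rw [← ht, pow_orderOf_eq_one]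
    simpa [pow_two] using this
  have ht1 : t ≠ 1 := by
    rintro rfl
    rw [orderOf_one] at ht
    omega
  have hMp : IsPGroup p M := by
    apply IsPGroup.of_card (n := (Nat.card M).factorization p)
    have hn : Nat.card M ≠ 0 := Nat.card_pos.ne'
    by_cases h1 : Nat.card M = 1
    · rw [h1]
      simp
    have hall : ∀ {r : ℕ}, r.Prime → r ∣ Nat.card M → r = p := by
      intro r hr hrM
      exact C.prime_eq ht1 ⟨1, by rw [pow_one, pow_two, htt]⟩
        (mem_nor_of_forall (fun z hz => hMn.conj_mem z hz t)) h2 hr hrM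
    obtain ⟨e, he⟩ : ∃ e, Nat.card M = p ^ e := ⟨_, Nat.eq_prime_pow_of_unique_prime_dvd hn hall⟩
    rw [he, C.hp.factorization_pow]
    simp
  haveI := C.fact_p
  -- `p`-elements commute with `M`
  have hPE : ∀ g, PE p g → ∀ c ∈ M, Commute g c := by
    intro g hg c hc
    have hP : IsPGroup p (M ⊔ zpowers g : Subgroup G) :=
      IsPGroup.to_sup_of_normal_left hMp (isPGroup_zpowers_of_PE hg) 
    exact C.pgroup_comm hP (mem_sup_right (mem_zpowers g)) (mem_sup_left hc)
  -- `Q` centralizes `M`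
  have hQ : Q ≤ centralizer (M : Set G) := by
    intro s hs
    rw [mem_centralizer_iff']
    intro c hc
    by_cases hs1 : s = 1
    · rw [hs1]
      group
    set f := c⁻¹ * (s * c * s⁻¹) with hf
    have hfM : f ∈ M := M.mul_mem (M.inv_mem hc) (hMn.conj_mem c hc s)
    have hss : s⁻¹ = s := inv_of_sq (h.sq s hs)
    have hfinv : s * f * s⁻¹ = f⁻¹ := by
      rw [hf]
      exact conj_commutator_inv (h.sq s hs)
    have hpe : PE p f := PE.of_mem hMp hfM
    -- another element of `Q`
    have hw : ∃ w ∈ Q, w ≠ 1 ∧ w ≠ s := by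
      by_contra hcon
      push Not at hcon
      have hsub : (Q : Set G) ⊆ {1, s} := by
        intro w hw
        by_cases hw1 : w = 1
        · left
          exact hw1
        · right
          exact hcon w hw hw1
      have hcard : Nat.card Q ≤ 2 := by
        have h3 : (Q : Set G).ncard ≤ ({1, s} : Set G).ncard :=
          Set.ncard_le_ncard hsub (Set.toFinite _)
        have h4 : ({1, s} : Set G).ncard ≤ 2 := by
          refine (Set.ncard_insert_le 1 {s}).trans ?_
          simp
        exact h3.trans h4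
      rw [h.card] at hcard
      have := C.four_le
      omega
    obtain ⟨w, hw, hw1, hws⟩ := hw
    have hcf : Commute f y := (hPE y h.pe f hfM).symm
    have hff := lemma_Z h.sq h.trans hw hw1 hws hs hs1 hcf hfinv
    have hf1 : f = 1 := C.eq_one hpe hff
    have h5 : s * c * s⁻¹ = c := by
      have : c⁻¹ * (s * c * s⁻¹) = 1 := hf1
      have h6 : s * c * s⁻¹ = c * (c⁻¹ * (s * c * s⁻¹)) := by group
      rw [h6, this, mul_one]
    exact h5
  -- the centralizer
  have hCn : (centralizer (M : Set G)).Normal := Subgroup.normal_centralizer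
  by_cases hCt : centralizer (M : Set G) = ⊤
  · -- `M` is central; contradiction by transfer
    obtain ⟨c, hc1⟩ := (Subgroup.ne_bot_iff_exists_ne_one).1 hM
    refine C.no_central h (c := c) (PE.of_mem hMp c.2) (fun h' => hc1 (Subtype.ext h')) ?_
    intro g
    have hg : g ∈ centralizer (M : Set G) := hCt ▸ mem_top g
    exact (Subgroup.mem_centralizer_iff.1 hg c c.2)
  · apply C.no_even_normal h hCt
    have h3 : Nat.card Q ∣ Nat.card (centralizer (M : Set G)) := Subgroup.card_dvd_of_le hQ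
    rw [h.card] at h3
    exact (dvd_pow_self 2 (by have := C.two_le; omega)).trans h3

/-- The minimal counterexample is simple. -/
theorem isSimple (C : Ctx G p a) {Q : Subgroup G} {y : G} (h : Good p a Q y) : IsSimpleGroup G := by
  haveI : Nontrivial G := by
    rw [← Finite.one_lt_card_iff_nontrivial]
    have := C.hp.two_le
    have h2 := Nat.le_of_dvd Nat.card_pos C.hpG
    omega
  refine ⟨fun M hM => ?_⟩
  by_contra hcon
  push Not at hcon
  by_cases h2 : 2 ∣ Nat.card M
  · exact C.no_even_normal h hcon.2 h2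
  · exact C.no_odd_normal h hcon.1 h2

/-- Nontrivial elements are not central. -/
theorem centralizer_ne_top (C : Ctx G p a) {Q : Subgroup G} {y : G} (h : Good p a Q y) {z : G}
    (hz : z ≠ 1) : centralizer ({z} : Set G) ≠ ⊤ := by
  intro htop
  have hS := C.isSimple h
  have hcen : ∀ g : G, Commute z g := by
    intro g
    have hg : g ∈ centralizer ({z} : Set G) := htop ▸ mem_top g
    exact Subgroup.mem_centralizer_iff.1 hg z rfl
  have hzc : z ∈ center G := by
    rw [Subgroup.mem_center_iff]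
    intro g
    exact (hcen g).symm
  rcases hS.eq_bot_or_eq_top_of_normal (center G) inferInstance with h1 | h1
  · rw [h1, Subgroup.mem_bot] at hzc
    exact hz hzc
  · -- `G` is abelian, so `Q` is normal
    apply C.normalizer_ne_top h
    rw [eq_top_iff]
    intro g _
    apply mem_nor_of_forall
    intro x hx
    have hgc : g ∈ center G := h1 ▸ mem_top g
    have : g * x = x * g := (Subgroup.mem_center_iff.1 hgc x).symm
    rw [this]
    simpa using hx

end Ctx

end Cfsg.Agent.Lib.MixedPrime
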